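/-
The affine group AGL(2,3) on nine points with the coordinates of a GL(2,3)-amalgam.

Main definitions: `Aff`, `Bor`, `aM`, `bM`, `cM`, `pM`, `qM`, `nM`.
Main results: `card_aff`, `closure_six`, `bruhat`, and the finite facts used for the amalgam.
-/
import Mathlib.GroupTheory.Perm.Basic
import Mathlib.GroupTheory.Perm.Fin
import Mathlib.SetTheory.Cardinal.Finite
import Mathlib.Data.Fintype.Perm
import Mathlib.Data.Fintype.Prod
import Mathlib.Algebra.Group.Subgroup.Lattice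

set_option autoImplicit false
set_option maxRecDepth 10000

namespace Cfsg.Agent.GLThreeAmalgam

open Equiv

/-- Addition of the nine points `3 x + y` of the affine plane. -/
def padd (u w : Fin 9) : Fin 9 :=
  ⟨3 * ((u.val / 3 + w.val / 3) % 3) + (u.val + w.val) % 3, by omega⟩

/-- Negation of points. -/
def pneg (u : Fin 9) : Fin 9 := padd u u

/-- An affine map given by the images of `0`, `(1,0)` and `(0,1)`. -/
def app (o e f x : Fin 9) : Fin 9 :=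
  let de := padd e (pneg o)
  let df := padd f (pneg o)
  let X := ![0, de, padd de de]
  let Y := ![0, df, padd df df]
  padd o (padd (X ⟨x.val / 3, by omega⟩) (Y ⟨x.val % 3, by omega⟩))

/-- A permutation is affine. -/
def IsAff (σ : Perm (Fin 9)) : Prop := ∀ u w, padd (σ u) (σ w) = padd (σ (padd u w)) (σ 0)

theorem padd_cancel : ∀ u w z : Fin 9, padd u z = padd w z → u = w := by decide +kernel

theorem IsAff.mul {σ τ : Perm (Fin 9)} (hs : IsAff σ) (ht : IsAff τ) : IsAff (σ * τ) := fun u w => by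
  simp only [Perm.mul_apply]
  rw [hs (τ u), ht, ← hs]

theorem IsAff.one : IsAff 1 := fun u w => by
  simp only [Perm.one_apply]
  exact (by decide +kernel : ∀ u w : Fin 9, padd u w = padd (padd u w) 0) u w

theorem IsAff.inv {σ : Perm (Fin 9)} (hs : IsAff σ) : IsAff σ⁻¹ := fun u w => by
  refine σ.injective (padd_cancel _ _ (σ 0) ?_)
  rw [← hs, ← hs]
  simp only [Perm.inv_def, Equiv.apply_symm_apply]
  exact (by decide +kernel : ∀ u w : Fin 9, padd u w = padd (padd u w) 0) u w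

/-- The group AGL(2,3). -/
def Aff : Subgroup (Perm (Fin 9)) where
  carrier := {σ | IsAff σ}
  mul_mem' := IsAff.mul
  one_mem' := IsAff.one
  inv_mem' := IsAff.inv

theorem mem_aff {σ : Perm (Fin 9)} : σ ∈ Aff ↔ IsAff σ := Iff.rfl

theorem aff_apply (σ : Aff) (x : Fin 9) :
    σ.1 x = app (σ.1 0) (σ.1 3) (σ.1 1) x := by
  have h := σ.2
  have h2 := h 1 1
  have h4 := h 3 1
  have h5 := h 3 2
  have h6 := h 3 3
  have h7 := h 6 1
  have h8 := h 6 2
  rw [show padd (1 : Fin 9) 1 = 2 from by decide] at h2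
  rw [show padd (3 : Fin 9) 1 = 4 from by decide] at h4
  rw [show padd (3 : Fin 9) 2 = 5 from by decide] at h5
  rw [show padd (3 : Fin 9) 3 = 6 from by decide] at h6
  rw [show padd (6 : Fin 9) 1 = 7 from by decide] at h7
  rw [show padd (6 : Fin 9) 2 = 8 from by decide] at h8
  have g : ∀ o e f s2 s4 s5 : Fin 9, padd f f = padd s2 o → padd e f = padd s4 o → padd e s2 = padd s5 o →
      e = app o e f 3 ∧ f = app o e f 1 ∧ o = app o e f 0 ∧ s2 = app o e f 2 ∧ s4 = app o e f 4 := by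
    intro o e f s2 s4 s5 a b c
    have a' := padd_cancel s2 (app o e f 2) o
    have b' := padd_cancel s4 (app o e f 4) o
    have k := (by decide +kernel : ∀ o e f : Fin 9, e = app o e f 3 ∧ f = app o e f 1 ∧ o = app o e f 0 ∧
      padd f f = padd (app o e f 2) o ∧ padd e f = padd (app o e f 4) o) o e f
    exact ⟨k.1, k.2.1, k.2.2.1, a' (a.symm.trans k.2.2.2.1), b' (b.symm.trans k.2.2.2.2)⟩
  obtain ⟨k3, k1, k0, k2, k4⟩ := g _ _ _ _ _ _ h2 h4 h5
  have K := (by decide +kernel : ∀ o e f : Fin 9,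
    padd e (app o e f 2) = padd (app o e f 5) o ∧ padd e e = padd (app o e f 6) o ∧
    padd (app o e f 6) f = padd (app o e f 7) o ∧ padd (app o e f 6) (app o e f 2) = padd (app o e f 8) o)
    (σ.1 0) (σ.1 3) (σ.1 1)
  have k5 := padd_cancel _ _ _ (h5.symm.trans ((congrArg (padd _) k2).trans K.1))
  have k6 := padd_cancel _ _ _ (h6.symm.trans K.2.1)
  have k7 := padd_cancel _ _ _ (h7.symm.trans ((congrArg (padd · _) k6).trans K.2.2.1))
  have k8 := padd_cancel _ _ _ (h8.symm.trans (((congrArg (padd · _) k6).trans (congrArg (padd _) k2)).trans K.2.2.2))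
  fin_cases x
  · exact k0
  · exact k1
  · exact k2
  · exact k3
  · exact k4
  · exact k5
  · exact k6
  · exact k7
  · exact k8

/-- The codes of the nondegenerate affine maps. -/
def okCode (o e f : Fin 9) : Prop :=
  let de := padd e (pneg o)
  let df := padd f (pneg o)
  de ≠ 0 ∧ df ≠ 0 ∧ de ≠ df ∧ de ≠ pneg df

instance (o e f : Fin 9) : Decidable (okCode o e f) := by unfold okCode; infer_instance

theorem okCode_of_aff (σ : Aff) : okCode (σ.1 0) (σ.1 3) (σ.1 1) := by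
  have ne : ∀ a b : Fin 9, a ≠ b → app (σ.1 0) (σ.1 3) (σ.1 1) a ≠ app (σ.1 0) (σ.1 3) (σ.1 1) b := by
    intro a b hab h
    rw [← aff_apply, ← aff_apply] at h
    exact hab (σ.1.injective h)
  exact (by decide +kernel : ∀ o e f : Fin 9, app o e f 3 ≠ app o e f 0 → app o e f 1 ≠ app o e f 0 →
    app o e f 3 ≠ app o e f 1 → app o e f 3 ≠ app o e f 2 → okCode o e f) _ _ _
    (ne 3 0 (by decide)) (ne 1 0 (by decide)) (ne 3 1 (by decide)) (ne 3 2 (by decide))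

/-- Transport of a finite check to the affine group. -/
theorem aff_forall {P : (Fin 9 → Fin 9) → Prop}
    (h : ∀ o e f : Fin 9, okCode o e f → P (app o e f)) (σ : Aff) : P σ.1 := by
  rw [show (σ.1 : Fin 9 → Fin 9) = app (σ.1 0) (σ.1 3) (σ.1 1) from funext (aff_apply σ)]
  exact h _ _ _ (okCode_of_aff σ)

theorem card_aff : Nat.card Aff ≤ 432 := by
  let f : Aff → {c : Fin 9 × Fin 9 × Fin 9 // okCode c.1 c.2.1 c.2.2} :=
    fun σ => ⟨(σ.1 0, σ.1 3, σ.1 1), okCode_of_aff σ⟩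
  have hf : Function.Injective f := fun σ τ h => by
    simp only [f, Subtype.mk.injEq, Prod.mk.injEq] at h
    refine Subtype.ext (Equiv.ext fun x => ?_)
    rw [aff_apply σ, aff_apply τ, h.1, h.2.1, h.2.2]
  refine (Nat.card_le_card_of_injective f hf).trans ?_
  rw [Nat.card_eq_fintype_card]
  decide +kernel

/-! ### Generators -/

/-- Translation by `(1,0)`. -/
def aM : Aff := ⟨⟨![3, 4, 5, 6, 7, 8, 0, 1, 2], ![6, 7, 8, 0, 1, 2, 3, 4, 5], by decide, by decide⟩,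
  mem_aff.mpr (by unfold IsAff; decide +kernel)⟩

/-- Translation by `(0,1)`. -/
def cM : Aff := ⟨⟨![1, 2, 0, 4, 5, 3, 7, 8, 6], ![2, 0, 1, 5, 3, 4, 8, 6, 7], by decide, by decide⟩,
  mem_aff.mpr (by unfold IsAff; decide +kernel)⟩

/-- The linear map `(x,y) ↦ (x,x+y)`. -/
def bM : Aff := ⟨⟨![0, 1, 2, 4, 5, 3, 8, 6, 7], ![0, 1, 2, 5, 3, 4, 7, 8, 6], by decide, by decide⟩,
  mem_aff.mpr (by unfold IsAff; decide +kernel)⟩

/-- The negation. -/
def pM : Aff := ⟨⟨![0, 2, 1, 6, 8, 7, 3, 5, 4], ![0, 2, 1, 6, 8, 7, 3, 5, 4], by decide, by decide⟩,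
  mem_aff.mpr (by unfold IsAff; decide +kernel)⟩

/-- The linear map `(x,y) ↦ (x,-y)`. -/
def qM : Aff := ⟨⟨![0, 2, 1, 3, 5, 4, 6, 8, 7], ![0, 2, 1, 3, 5, 4, 6, 8, 7], by decide, by decide⟩,
  mem_aff.mpr (by unfold IsAff; decide +kernel)⟩

/-- The linear map `(x,y) ↦ (y,x)`. -/
def nM : Aff := ⟨⟨![0, 3, 6, 1, 4, 7, 2, 5, 8], ![0, 3, 6, 1, 4, 7, 2, 5, 8], by decide, by decide⟩,
  mem_aff.mpr (by unfold IsAff; decide +kernel)⟩

/-- The six generators. -/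
def sixM : Fin 7 → Aff := ![aM, bM, cM, pM, qM, nM, 1]

/-- The stabiliser of the direction of `cM`. -/
def Bor : Subgroup Aff where
  carrier := {σ | σ * cM * σ⁻¹ = cM ∨ σ * cM * σ⁻¹ = cM⁻¹}
  one_mem' := Or.inl (by group)
  mul_mem' := by
    intro s t hs ht
    have e : s * t * cM * (s * t)⁻¹ = s * (t * cM * t⁻¹) * s⁻¹ := by group
    show _ ∨ _
    rw [e]
    have e' : s * cM⁻¹ * s⁻¹ = (s * cM * s⁻¹)⁻¹ := by group
    rcases ht with h | h <;> rw [h] <;> rcases hs with h' | h'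
    · exact Or.inl h'
    · exact Or.inr h'
    · exact Or.inr (by rw [e', h'])
    · exact Or.inl (by rw [e', h', inv_inv])
  inv_mem' := by
    intro s hs
    show _ ∨ _
    rcases hs with h | h
    · left
      conv_lhs => rw [← h]
      group
    · right
      have h' : cM = (s * cM * s⁻¹)⁻¹ := by rw [h, inv_inv]
      conv_lhs => rw [h']
      group

theorem mem_bor {σ : Aff} : σ ∈ Bor ↔ σ * cM = cM * σ ∨ σ * cM = cM⁻¹ * σ := by
  show σ * cM * σ⁻¹ = _ ∨ σ * cM * σ⁻¹ = _ ↔ _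
  rw [mul_inv_eq_iff_eq_mul, mul_inv_eq_iff_eq_mul]

theorem aff_eq_iff {σ τ : Aff} : σ = τ ↔ ∀ x, σ.1 x = τ.1 x := by
  rw [Subtype.ext_iff, Equiv.ext_iff]

theorem bruhat (σ : Aff) : σ ∈ Bor ∨ ∃ k < 3, ∃ j < 2, σ * cM = bM ^ k * pM ^ j * nM * cM * (bM ^ k * pM ^ j * nM)⁻¹ * σ := by
  simp only [mem_bor, aff_eq_iff, Subgroup.coe_mul, Subgroup.coe_inv, Subgroup.coe_pow, Perm.mul_apply]
  exact aff_forall (P := fun s => ((∀ x, s (cM.1 x) = cM.1 (s x)) ∨ ∀ x, s (cM.1 x) = (cM.1⁻¹ : Perm (Fin 9)) (s x)) ∨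
    ∃ k < 3, ∃ j < 2, ∀ x, s (cM.1 x) = (bM.1 ^ k : Perm (Fin 9)) ((pM.1 ^ j : Perm (Fin 9)) (nM.1 (cM.1
      ((bM.1 ^ k * pM.1 ^ j * nM.1 : Perm (Fin 9))⁻¹ (s x))))))
    (by decide +kernel) σ

theorem bor_decomp (σ : Aff) : σ ∈ Bor → ∃ i < 3, ∃ j < 3, ∃ k < 3, ∃ l < 2, ∃ m < 2,
    σ = aM ^ i * cM ^ j * bM ^ k * pM ^ l * qM ^ m := by
  simp only [mem_bor, aff_eq_iff, Subgroup.coe_mul, Subgroup.coe_inv, Subgroup.coe_pow, Perm.mul_apply]
  exact aff_forall (P := fun s => ((∀ x, s (cM.1 x) = cM.1 (s x)) ∨ ∀ x, s (cM.1 x) = (cM.1⁻¹ : Perm (Fin 9)) (s x)) →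
    ∃ i < 3, ∃ j < 3, ∃ k < 3, ∃ l < 2, ∃ m < 2, ∀ x, s x =
      (aM.1 ^ i : Perm (Fin 9)) ((cM.1 ^ j : Perm (Fin 9)) ((bM.1 ^ k : Perm (Fin 9))
        ((pM.1 ^ l : Perm (Fin 9)) ((qM.1 ^ m : Perm (Fin 9)) x)))))
    (by decide +kernel) σ

theorem closure_six : Subgroup.closure (Set.range sixM) = ⊤ := by
  set K := Subgroup.closure (Set.range sixM)
  have h : ∀ i, sixM i ∈ K := fun i => Subgroup.subset_closure ⟨i, rfl⟩
  have hb : ∀ σ ∈ Bor, σ ∈ K := by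
    intro σ hσ
    obtain ⟨i, -, j, -, k, -, l, -, m, -, rfl⟩ := bor_decomp σ hσ
    exact mul_mem (mul_mem (mul_mem (mul_mem (pow_mem (h 0) i) (pow_mem (h 2) j)) (pow_mem (h 1) k))
      (pow_mem (h 3) l)) (pow_mem (h 4) m)
  rw [eq_top_iff]
  intro σ _
  rcases bruhat σ with hσ | ⟨k, -, j, -, e⟩
  · exact hb σ hσ
  · set g := bM ^ k * pM ^ j * nM
    have hg : g ∈ K := mul_mem (mul_mem (pow_mem (h 1) k) (pow_mem (h 3) j)) (h 5)
    have h1 : g⁻¹ * σ ∈ Bor := mem_bor.mpr (Or.inl (by rw [mul_assoc, e]; group))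
    have := mul_mem hg (hb _ h1)
    rwa [mul_inv_cancel_left] at this

theorem six_mem_bor : aM ∈ Bor ∧ bM ∈ Bor ∧ cM ∈ Bor ∧ pM ∈ Bor ∧ qM ∈ Bor ∧ nM ∉ Bor := by
  simp only [mem_bor, aff_eq_iff, Subgroup.coe_mul, Subgroup.coe_inv, Perm.mul_apply]
  decide +kernel

/-- An element of order three commuting with its conjugate under `qM` lies in one of two subgroups. -/
theorem abelian_cases (σ : Aff) : σ ∈ Bor → σ * σ * σ = 1 → σ * (qM * σ * qM) = qM * σ * qM * σ →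
    ∃ i < 3, ∃ j < 3, σ = aM ^ i * cM ^ j ∨ σ = bM ^ i * cM ^ j := by
  simp only [mem_bor, aff_eq_iff, Subgroup.coe_mul, Subgroup.coe_inv, Subgroup.coe_pow, Subgroup.coe_one,
    Perm.mul_apply, Perm.one_apply]
  exact aff_forall (P := fun s => ((∀ x, s (cM.1 x) = cM.1 (s x)) ∨ ∀ x, s (cM.1 x) = (cM.1⁻¹ : Perm (Fin 9)) (s x)) →
    (∀ x, s (s (s x)) = x) → (∀ x, s (qM.1 (s (qM.1 x))) = qM.1 (s (qM.1 (s x)))) →
    ∃ i < 3, ∃ j < 3, (∀ x, s x = (aM.1 ^ i : Perm (Fin 9)) ((cM.1 ^ j : Perm (Fin 9)) x)) ∨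
      ∀ x, s x = (bM.1 ^ i : Perm (Fin 9)) ((cM.1 ^ j : Perm (Fin 9)) x))
    (by decide +kernel) σ

/-- The common centraliser of `aM` and `qM`. -/
theorem centralizer_aq (σ : Aff) : σ * aM = aM * σ → σ * qM = qM * σ →
    ∃ i < 3, ∃ j < 2, σ = aM ^ i * qM ^ j := by
  simp only [aff_eq_iff, Subgroup.coe_mul, Subgroup.coe_pow, Perm.mul_apply]
  exact aff_forall (P := fun s => (∀ x, s (aM.1 x) = aM.1 (s x)) → (∀ x, s (qM.1 x) = qM.1 (s x)) →
    ∃ i < 3, ∃ j < 2, ∀ x, s x = (aM.1 ^ i : Perm (Fin 9)) ((qM.1 ^ j : Perm (Fin 9)) x))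
    (by decide +kernel) σ

theorem eq_qM (σ : Aff) : σ * pM = pM * σ → σ * aM = aM * σ → σ * cM = cM⁻¹ * σ → σ = qM := by
  simp only [aff_eq_iff, Subgroup.coe_mul, Subgroup.coe_inv, Perm.mul_apply]
  exact aff_forall (P := fun s => (∀ x, s (pM.1 x) = pM.1 (s x)) → (∀ x, s (aM.1 x) = aM.1 (s x)) →
    (∀ x, s (cM.1 x) = (cM.1⁻¹ : Perm (Fin 9)) (s x)) → ∀ x, s x = qM.1 x) (by decide +kernel) σ

theorem eq_bM (σ : Aff) : σ * pM = pM * σ → σ * aM = aM * cM * σ → σ * cM = cM * σ → σ = bM := by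
  simp only [aff_eq_iff, Subgroup.coe_mul, Perm.mul_apply]
  exact aff_forall (P := fun s => (∀ x, s (pM.1 x) = pM.1 (s x)) → (∀ x, s (aM.1 x) = aM.1 (cM.1 (s x))) →
    (∀ x, s (cM.1 x) = cM.1 (s x)) → ∀ x, s x = bM.1 x) (by decide +kernel) σ

theorem centralizer_pqn (σ : Aff) : σ * pM = pM * σ → σ * qM = qM * σ → σ * nM = nM * σ →
    σ = 1 ∨ σ = pM := by
  simp only [aff_eq_iff, Subgroup.coe_mul, Subgroup.coe_one, Perm.mul_apply, Perm.one_apply]
  exact aff_forall (P := fun s => (∀ x, s (pM.1 x) = pM.1 (s x)) → (∀ x, s (qM.1 x) = qM.1 (s x)) →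
    (∀ x, s (nM.1 x) = nM.1 (s x)) → (∀ x, s x = x) ∨ ∀ x, s x = pM.1 x) (by decide +kernel) σ

end Cfsg.Agent.GLThreeAmalgam
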