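/-
Coordinates on a group of order 432 with a self-centralising normal subgroup of type (3,3).

Main results: `exists_inverter`, `exists_coord`.
-/
import Cfsg.Agent.Lib.GLThreeAmalgam.Model
import Mathlib.GroupTheory.GroupAction.Quotient
import Mathlib.GroupTheory.Coset.Card
import Mathlib.GroupTheory.OrderOfElement
import Mathlib.Tactic.Group
import Mathlib.Tactic.FinCases

set_option autoImplicit false

namespace Cfsg.Agent.GLThreeAmalgam

open Subgroup

/-- A basis of a self-centralising normal subgroup of type (3,3). -/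
structure Basis {X : Type*} [Group X] (Q : Subgroup X) (u v : X) : Prop where
  normal : Q.Normal
  comm : ∀ x ∈ Q, ∀ y ∈ Q, x * y = y * x
  exp : ∀ x ∈ Q, x ^ 3 = 1
  card : Nat.card Q = 9
  self : centralizer (Q : Set X) = Q
  umem : u ∈ Q
  vmem : v ∈ Q
  vne : v ≠ 1
  unot : u ∉ zpowers v

namespace Basis

variable {X : Type*} [Group X] {Q : Subgroup X} {u v : X} (h : Basis Q u v)
include h

/-- The element of a point. -/
def pt (_ : Basis Q u v) (z : Fin 9) : X := u ^ (z.val / 3) * v ^ (z.val % 3)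

theorem pt_mem (z : Fin 9) : h.pt z ∈ Q := mul_mem (pow_mem h.umem _) (pow_mem h.vmem _)

theorem pow_mod {x : X} (hx : x ∈ Q) (k : ℕ) : x ^ k = x ^ (k % 3) :=
  pow_eq_pow_mod k (h.exp x hx)

theorem pt_add (z w : Fin 9) : h.pt (padd z w) = h.pt z * h.pt w := by
  unfold pt
  have e1 : (padd z w).val / 3 = (z.val / 3 + w.val / 3) % 3 := by unfold padd; dsimp only; omega
  have e2 : (padd z w).val % 3 = (z.val + w.val) % 3 := by unfold padd; dsimp only; omega
  rw [e1, e2, ← h.pow_mod h.umem, ← h.pow_mod h.vmem, pow_add, h.pow_mod h.vmem (z.val + w.val),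
    show (z.val + w.val) % 3 = (z.val % 3 + w.val % 3) % 3 from Nat.add_mod .., ← h.pow_mod h.vmem, pow_add]
  rw [mul_assoc, mul_assoc, ← mul_assoc (u ^ (w.val / 3)) (v ^ (z.val % 3)),
    h.comm _ (pow_mem h.umem (w.val / 3)) _ (pow_mem h.vmem (z.val % 3)), mul_assoc]

theorem pt_zero : h.pt 0 = 1 := by simp [pt]

theorem pt_a : h.pt 3 = u := by simp [pt]

theorem pt_c : h.pt 1 = v := by simp [pt]

theorem pt_neg (z : Fin 9) : h.pt (pneg z) = (h.pt z)⁻¹ := by
  refine eq_inv_of_mul_eq_one_left ?_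
  rw [← h.pt_add, show padd (pneg z) z = 0 from (by decide +kernel : ∀ z, padd (pneg z) z = 0) z, h.pt_zero]

theorem pt_injective : Function.Injective h.pt := by
  intro z w e
  have e0 : h.pt (padd z (pneg w)) = 1 := by rw [h.pt_add, h.pt_neg, e, mul_inv_cancel]
  have hker : ∀ y : Fin 9, h.pt y = 1 → y = 0 := by
    intro y hy
    by_contra hne
    have hu : ∀ i < 3, i ≠ 0 → u ^ i ∉ zpowers v := by
      intro i hi hi0 hm
      rcases (by omega : i = 1 ∨ i = 2) with rfl | rfl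
      · exact h.unot (by simpa using hm)
      · have h2 := mul_mem hm hm
        rw [← pow_add, h.pow_mod h.umem] at h2
        exact h.unot (by simpa using h2)
    by_cases hq : y.val / 3 = 0
    · have hy' : y.val % 3 = 1 ∨ y.val % 3 = 2 := by
        have : y.val ≠ 0 := fun h0 => hne (Fin.ext h0)
        omega
      unfold pt at hy
      rw [hq, pow_zero, one_mul] at hy
      rcases hy' with e1 | e1 <;> rw [e1] at hy
      · exact h.vne (by simpa using hy)
      · have h3 := h.exp v h.vmem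
        rw [pow_succ, hy, one_mul] at h3
        exact h.vne h3
    · refine hu _ (by omega) hq ?_
      rw [eq_inv_of_mul_eq_one_left hy]
      exact inv_mem (pow_mem (mem_zpowers v) _)
  exact (by decide +kernel : ∀ z w : Fin 9, padd z (pneg w) = 0 → z = w) z w (hker _ e0)

theorem exists_pt {x : X} (hx : x ∈ Q) : ∃ z, h.pt z = x := by
  let f : Fin 9 → Q := fun z => ⟨h.pt z, h.pt_mem z⟩
  have : Finite Q := Nat.finite_of_card_ne_zero (by rw [h.card]; norm_num)
  obtain ⟨z, hz⟩ := ((Nat.bijective_iff_injective_and_card f).mpr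
    ⟨fun a b e => h.pt_injective (congrArg Subtype.val e), by simp [h.card]⟩).2 ⟨x, hx⟩
  exact ⟨z, congrArg Subtype.val hz⟩

/-- Inversion on the basis gives inversion on the subgroup. -/
theorem inverts {t : X} (htu : t * u * t⁻¹ = u⁻¹) (htv : t * v * t⁻¹ = v⁻¹) :
    ∀ y ∈ Q, t * y * t⁻¹ = y⁻¹ := by
  intro y hy
  obtain ⟨z, rfl⟩ := h.exists_pt hy
  unfold pt
  rw [← conj_mul, ← conj_pow, ← conj_pow, htu, htv, mul_inv_rev, inv_pow, inv_pow,
    h.comm _ (inv_mem (pow_mem h.umem _)) _ (inv_mem (pow_mem h.vmem _))]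

/-- An involution inverting the subgroup exists. -/
theorem exists_inverter [Finite X] (hX : Nat.card X = 432) :
    ∃ t : X, t * t = 1 ∧ t * u * t⁻¹ = u⁻¹ ∧ t * v * t⁻¹ = v⁻¹ := by
  classical
  have hn := h.normal
  have hconj : ∀ (x : X) (z : Fin 9), ∃ w, h.pt w = x * h.pt z * x⁻¹ := fun x z =>
    h.exists_pt (hn.conj_mem _ (h.pt_mem z) x)
  choose κ hκ using hconj
  have hinj : ∀ x, Function.Injective (κ x) := fun x a b e => h.pt_injective (by
    have := congrArg h.pt e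
    rw [hκ, hκ] at this
    exact mul_left_cancel (mul_right_cancel this))
  have hadd : ∀ x a b, κ x (padd a b) = padd (κ x a) (κ x b) := fun x a b => h.pt_injective (by
    rw [hκ, h.pt_add, h.pt_add, hκ, hκ]; group)
  have hzero : ∀ x, κ x 0 = 0 := fun x => h.pt_injective (by rw [hκ, h.pt_zero]; group)
  let S := {c : Fin 9 × Fin 9 // okCode 0 c.1 c.2}
  have hok : ∀ x, okCode 0 (κ x 3) (κ x 1) := fun x => by
    have h3 : κ x 3 ≠ 0 := fun e => absurd (hinj x (e.trans (hzero x).symm)) (by decide)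
    have h1 : κ x 1 ≠ 0 := fun e => absurd (hinj x (e.trans (hzero x).symm)) (by decide)
    have h31 : κ x 3 ≠ κ x 1 := fun e => absurd (hinj x e) (by decide)
    have h32 : κ x 3 ≠ padd (κ x 1) (κ x 1) := fun e => by
      rw [← hadd] at e
      exact absurd (hinj x e) (by decide)
    exact (by decide +kernel : ∀ e f : Fin 9, e ≠ 0 → f ≠ 0 → e ≠ f → e ≠ padd f f → okCode 0 e f) _ _ h3 h1 h31 h32
  let g : X → S := fun x => ⟨(κ x 3, κ x 1), hok x⟩
  have hfib : ∀ x y, g x = g y → (y⁻¹ * x) ∈ Q := by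
    intro x y e
    replace e : (κ x 3, κ x 1) = (κ y 3, κ y 1) := congrArg Subtype.val e
    rw [Prod.mk.injEq] at e
    have key : ∀ z, x * h.pt z * x⁻¹ = y * h.pt z * y⁻¹ := by
      have hu : x * u * x⁻¹ = y * u * y⁻¹ := by rw [← h.pt_a, ← hκ, ← hκ, e.1]
      have hv : x * v * x⁻¹ = y * v * y⁻¹ := by rw [← h.pt_c, ← hκ, ← hκ, e.2]
      intro z
      unfold pt
      rw [← conj_mul, ← conj_mul, ← conj_pow, ← conj_pow, ← conj_pow, ← conj_pow, hu, hv]
    rw [← h.self, mem_centralizer_iff]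
    intro q hq
    obtain ⟨z, rfl⟩ := h.exists_pt hq
    have := key z
    calc h.pt z * (y⁻¹ * x) = y⁻¹ * (y * h.pt z * y⁻¹) * x := by group
      _ = y⁻¹ * (x * h.pt z * x⁻¹) * x := by rw [this]
      _ = _ := by group
  let g' : X ⧸ Q → S := fun c => g c.out
  have hg' : Function.Injective g' := fun c c' e => by
    rw [← c.out_eq, ← c'.out_eq]
    exact (QuotientGroup.eq.mpr (hfib _ _ e)).symm
  have hq : Nat.card (X ⧸ Q) = 48 := by
    have := Subgroup.card_eq_card_quotient_mul_card_subgroup Q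
    rw [hX, h.card] at this
    omega
  have hS : Nat.card S = 48 := by rw [Nat.card_eq_fintype_card]; decide +kernel
  obtain ⟨c, hc⟩ := ((Nat.bijective_iff_injective_and_card g').mpr ⟨hg', hq.trans hS.symm⟩).2
    ⟨(6, 2), by decide +kernel⟩
  set x := c.out
  replace hc : (κ x 3, κ x 1) = ((6 : Fin 9), (2 : Fin 9)) := congrArg Subtype.val hc
  rw [Prod.mk.injEq] at hc
  have hxu : x * u * x⁻¹ = u⁻¹ := by
    rw [← h.pt_a, ← hκ, hc.1, ← h.pt_neg]; rfl
  have hxv : x * v * x⁻¹ = v⁻¹ := by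
    rw [← h.pt_c, ← hκ, hc.2, ← h.pt_neg]; rfl
  have h2 : x * x ∈ Q := by
    rw [← h.self, mem_centralizer_iff]
    intro q hq
    obtain ⟨z, rfl⟩ := h.exists_pt hq
    have hi := h.inverts hxu hxv
    have : x * x * h.pt z * (x * x)⁻¹ = h.pt z := by
      calc x * x * h.pt z * (x * x)⁻¹ = x * (x * h.pt z * x⁻¹) * x⁻¹ := by group
        _ = x * (h.pt z)⁻¹ * x⁻¹ := by rw [hi _ (h.pt_mem z)]
        _ = _ := by rw [hi _ (inv_mem (h.pt_mem z)), inv_inv]
    calc h.pt z * (x * x) = x * x * h.pt z * (x * x)⁻¹ * (x * x) := by rw [this]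
      _ = _ := by group
  have h6 : (x * x) ^ 3 = 1 := h.exp _ h2
  refine ⟨x * x * x, ?_, ?_, ?_⟩
  · rw [← h6, pow_succ, pow_succ, pow_one]; group
  all_goals
    have hfix : ∀ q ∈ Q, x * x * q * (x * x)⁻¹ = q := fun q hq => by
      rw [h.comm _ h2 q hq, mul_inv_cancel_right]
  · calc x * x * x * u * (x * x * x)⁻¹ = x * x * (x * u * x⁻¹) * (x * x)⁻¹ := by group
      _ = _ := by rw [hxu, hfix _ (inv_mem h.umem)]
  · calc x * x * x * v * (x * x * x)⁻¹ = x * x * (x * v * x⁻¹) * (x * x)⁻¹ := by group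
      _ = _ := by rw [hxv, hfix _ (inv_mem h.vmem)]

/-- The coordinates. -/
theorem exists_coord [Finite X] (hX : Nat.card X = 432) {t : X} (ht : t * t = 1)
    (htu : t * u * t⁻¹ = u⁻¹) (htv : t * v * t⁻¹ = v⁻¹) :
    ∃ θ : Aff →* X, Function.Bijective θ ∧ θ aM = u ∧ θ cM = v ∧ θ pM = t := by
  classical
  have hn := h.normal
  have hinv := h.inverts htu htv
  set C := centralizer ({t} : Set X) with hC
  have hmemC : ∀ x, x ∈ C ↔ x * t = t * x := fun x => by
    rw [hC, mem_centralizer_singleton_iff]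
  have hQC : ∀ s ∈ Q, s ∈ C → s = 1 := by
    intro s hs hc
    have e : s⁻¹ = s := by
      rw [← hinv s hs, ← (hmemC s).mp hc, mul_inv_cancel_right]
    have h3 := h.exp s hs
    rw [pow_succ, pow_two] at h3
    nth_rewrite 1 [← e] at h3
    simpa using h3
  have hdec : ∀ y : X, ∃ s ∈ Q, s⁻¹ * y ∈ C := by
    intro y
    have hw : y * t * y⁻¹ * t⁻¹ ∈ Q := by
      rw [← h.self, mem_centralizer_iff]
      intro q hq
      have hq' : y⁻¹ * q⁻¹ * y ∈ Q := by simpa using hn.conj_mem _ (inv_mem hq) y⁻¹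
      have e : y * t * y⁻¹ * t⁻¹ * q * (y * t * y⁻¹ * t⁻¹)⁻¹ = q := by
        have h1 : t⁻¹ * q * t = q⁻¹ := by
          rw [show t⁻¹ = t from inv_eq_of_mul_eq_one_left ht]
          conv_lhs => enter [2]; rw [show t = t⁻¹ from (inv_eq_of_mul_eq_one_left ht).symm]
          exact hinv q hq
        calc y * t * y⁻¹ * t⁻¹ * q * (y * t * y⁻¹ * t⁻¹)⁻¹
            = y * (t * (y⁻¹ * (t⁻¹ * q * t) * y) * t⁻¹) * y⁻¹ := by group
          _ = y * (t * (y⁻¹ * q⁻¹ * y) * t⁻¹) * y⁻¹ := by rw [h1]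
          _ = y * (y⁻¹ * q⁻¹ * y)⁻¹ * y⁻¹ := by rw [hinv _ hq']
          _ = q := by group
      calc q * (y * t * y⁻¹ * t⁻¹) = y * t * y⁻¹ * t⁻¹ * q * (y * t * y⁻¹ * t⁻¹)⁻¹ * (y * t * y⁻¹ * t⁻¹) := by
            rw [e]
        _ = _ := by group
    set w := y * t * y⁻¹ * t⁻¹ with hwd
    refine ⟨w⁻¹, inv_mem hw, ?_⟩
    rw [hmemC, inv_inv]
    have e1 : y * t = w * t * y := by rw [hwd]; group
    have e2 : t * w = w⁻¹ * t := by
      rw [← hinv w hw, inv_mul_cancel_right]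
    have e3 : w * w = w⁻¹ := by
      refine eq_inv_of_mul_eq_one_left ?_
      rw [← pow_two, ← pow_succ, h.exp w hw]
    calc w * y * t = w * w * t * y := by rw [mul_assoc, e1]; group
      _ = t * w * y := by rw [e3, e2]
      _ = _ := by group
  let e0 : Fin 9 → X ⧸ C := fun z => (h.pt z : X)
  have he0 : Function.Bijective e0 := by
    constructor
    · intro a b e
      have := QuotientGroup.eq.mp e
      exact h.pt_injective (inv_mul_eq_one.mp (hQC _ (mul_mem (inv_mem (h.pt_mem a)) (h.pt_mem b)) this))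
    · intro c
      induction c using QuotientGroup.induction_on with | H y => ?_
      obtain ⟨s, hs, hsy⟩ := hdec y
      obtain ⟨z, hz⟩ := h.exists_pt hs
      exact ⟨z, QuotientGroup.eq.mpr (by rw [hz]; exact hsy)⟩
  let E := Equiv.ofBijective e0 he0
  let F : X →* Equiv.Perm (Fin 9) := E.symm.permCongrHom.toMonoidHom.comp (MulAction.toPermHom X (X ⧸ C))
  have hF : ∀ (x s : X) (z w : Fin 9), s⁻¹ * x ∈ C → h.pt w = s * (s⁻¹ * x * h.pt z * (s⁻¹ * x)⁻¹) →
      F x z = w := by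
    intro x s z w hc hw
    show E.symm (x • E z) = w
    rw [Equiv.symm_apply_eq]
    show ((x * h.pt z : X) : X ⧸ C) = (h.pt w : X)
    rw [QuotientGroup.eq, hw]
    have : (x * h.pt z)⁻¹ * (s * (s⁻¹ * x * h.pt z * (s⁻¹ * x)⁻¹)) = (s⁻¹ * x)⁻¹ := by group
    rw [this]
    exact inv_mem hc
  have hFex : ∀ x, ∃ s ∈ Q, s⁻¹ * x ∈ C ∧
      ∀ z, h.pt (F x z) = s * (s⁻¹ * x * h.pt z * (s⁻¹ * x)⁻¹) := by
    intro x
    obtain ⟨s, hs, hc⟩ := hdec x
    refine ⟨s, hs, hc, fun z => ?_⟩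
    obtain ⟨w, hw⟩ := h.exists_pt (mul_mem hs (hn.conj_mem _ (h.pt_mem z) (s⁻¹ * x)))
    rw [hF x s z w hc hw, hw]
  have haff : ∀ x, F x ∈ Aff := by
    intro x a b
    obtain ⟨s, hs, hc, he⟩ := hFex x
    refine h.pt_injective ?_
    rw [h.pt_add, h.pt_add, he, he, he, he, h.pt_add, h.pt_zero]
    set c := s⁻¹ * x
    have hca : c * h.pt a * c⁻¹ ∈ Q := hn.conj_mem _ (h.pt_mem a) c
    have hcb : c * h.pt b * c⁻¹ ∈ Q := hn.conj_mem _ (h.pt_mem b) c
    calc s * (c * h.pt a * c⁻¹) * (s * (c * h.pt b * c⁻¹))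
        = s * (c * h.pt a * c⁻¹) * (c * h.pt b * c⁻¹ * s) := by rw [h.comm _ hcb _ hs]
      _ = _ := by group
  let F' : X →* Aff := F.codRestrict Aff haff
  have hinj : Function.Injective F' := by
    rw [injective_iff_map_eq_one]
    intro x hx
    have hx' : F x = 1 := congrArg Subtype.val hx
    obtain ⟨s, hs, hc, he⟩ := hFex x
    have h0 := he 0
    rw [hx', Equiv.Perm.one_apply, h.pt_zero] at h0
    have hs1 : s = 1 := by
      rw [show s * (s⁻¹ * x * 1 * (s⁻¹ * x)⁻¹) = s by group] at h0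
      exact h0.symm
    have hxC : x ∈ C := by simpa [hs1] using hc
    refine hQC x ?_ hxC
    rw [← h.self, mem_centralizer_iff]
    intro q hq
    obtain ⟨z, rfl⟩ := h.exists_pt hq
    have := he z
    rw [hx', Equiv.Perm.one_apply, hs1] at this
    calc h.pt z * x = (1 : X) * (1⁻¹ * x * h.pt z * (1⁻¹ * x)⁻¹) * x := by rw [← this]
      _ = _ := by group
  have hbij : Function.Bijective F' := by
    have hle : Nat.card Aff ≤ Nat.card X := hX ▸ card_aff
    exact (Nat.bijective_iff_injective_and_card F').mpr ⟨hinj, le_antisymm (Nat.card_le_card_of_injective F' hinj) hle⟩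
  let θ : Aff ≃* X := (MulEquiv.ofBijective F' hbij).symm
  have hθ : ∀ (x : X) (σ : Aff), (∀ z, F x z = σ.1 z) → θ σ = x := by
    intro x σ hz
    rw [MulEquiv.symm_apply_eq]
    exact (Subtype.ext (Equiv.ext hz)).symm
  have htr : ∀ s ∈ Q, ∀ z, h.pt (F s z) = s * h.pt z := by
    intro s hs z
    have hz : s * h.pt z ∈ Q := mul_mem hs (h.pt_mem z)
    obtain ⟨w, hw⟩ := h.exists_pt hz
    rw [hF s s z w (by simp [one_mem]) (by rw [hw]; group), hw]
  refine ⟨θ.toMonoidHom, θ.bijective, ?_, ?_, ?_⟩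
  · refine hθ _ _ fun z => h.pt_injective ?_
    rw [htr u h.umem, ← (by decide +kernel : ∀ z, padd 3 z = aM.1 z) z, h.pt_add, h.pt_a]
  · refine hθ _ _ fun z => h.pt_injective ?_
    rw [htr v h.vmem, ← (by decide +kernel : ∀ z, padd 1 z = cM.1 z) z, h.pt_add, h.pt_c]
  · refine hθ _ _ fun z => ?_
    refine hF t 1 z _ ?_ ?_
    · rw [inv_one, one_mul, hmemC]
    · rw [show pM.1 z = pneg z from (by decide +kernel : ∀ z, pM.1 z = pneg z) z, h.pt_neg,
        ← hinv _ (h.pt_mem z)]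
      group

end Basis

end Cfsg.Agent.GLThreeAmalgam
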