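/-
Elementary facts on fixed-point-free actions of an element of order three.

Main results: `fpf_prod`, `fpf_conj_commute`, `no_sym_four`, `four_cycle`, `sym_three_split`, `sym_three_four`,
`quad_fixed`.
-/
import Mathlib.GroupTheory.SpecificGroups.Alternating
import Mathlib.GroupTheory.OrderOfElement
import Mathlib.GroupTheory.Perm.Fin
import Mathlib.Algebra.Group.Subgroup.Basic
import Mathlib.Data.Fintype.Perm
import Mathlib.Tactic.Group

set_option autoImplicit false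

namespace Cfsg.Agent.GLThreeAmalgam

/-- The product of the orbit of an element under an element of order three. -/
def pr {G : Type*} [Group G] (y e : G) : G := y * (e * y * e⁻¹) * (e⁻¹ * y * e)

section
variable {Q : Type*} [Group Q] (N : Subgroup Q) [N.Normal] [Finite N] {b : Q}

theorem fpf_surj (hfix : ∀ x ∈ N, b * x = x * b → x = 1) {y : Q} (hy : y ∈ N) :
    ∃ h ∈ N, y = h * b * h⁻¹ * b⁻¹ := by
  let f : N → N := fun x => ⟨(x : Q) * b * (x : Q)⁻¹ * b⁻¹, by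
    have : (x : Q) * b * (x : Q)⁻¹ * b⁻¹ = (x : Q) * (b * (x : Q)⁻¹ * b⁻¹) := by group
    rw [this]
    exact mul_mem x.2 (‹N.Normal›.conj_mem _ (inv_mem x.2) b)⟩
  have hinj : Function.Injective f := by
    intro x x' e
    have e' : (x : Q) * b * (x : Q)⁻¹ * b⁻¹ = (x' : Q) * b * (x' : Q)⁻¹ * b⁻¹ := congrArg Subtype.val e
    refine Subtype.ext (inv_mul_eq_one.mp (hfix _ (mul_mem (inv_mem x.2) x'.2) ?_))
    calc b * ((x : Q)⁻¹ * x') = (x : Q)⁻¹ * ((x : Q) * b * (x : Q)⁻¹ * b⁻¹) * b * x' := by group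
      _ = (x : Q)⁻¹ * ((x' : Q) * b * (x' : Q)⁻¹ * b⁻¹) * b * x' := by rw [e']
      _ = _ := by group
  obtain ⟨h, hh⟩ := (Finite.injective_iff_surjective.mp hinj) ⟨y, hy⟩
  exact ⟨h, h.2, (congrArg Subtype.val hh).symm⟩

theorem fpf_prod (hb : b ^ 3 = 1) (hfix : ∀ x ∈ N, b * x = x * b → x = 1) {y : Q} (hy : y ∈ N) :
    pr y b = 1 := by
  obtain ⟨h, -, rfl⟩ := fpf_surj N hfix hy
  calc pr (h * b * h⁻¹ * b⁻¹) b = h * b * b * h⁻¹ * (b ^ 3)⁻¹ * h * b * h⁻¹ := by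
        unfold pr; rw [pow_succ, pow_two]; group
    _ = h * b * b * b * h⁻¹ := by rw [hb]; group
    _ = h * b ^ 3 * h⁻¹ := by rw [pow_succ, pow_two]; group
    _ = 1 := by rw [hb]; group

theorem fpf_conj_commute (hb : b ^ 3 = 1) (hfix : ∀ x ∈ N, b * x = x * b → x = 1) {x y : Q}
    (hx : x ∈ N) (hy : y ∈ N) : x * (y * x * y⁻¹) = y * x * y⁻¹ * x := by
  have key : ∀ (c : Q), c ^ 3 = 1 → (∀ z ∈ N, c * z = z * c → z = 1) → ∀ z ∈ N, ∀ g ∈ N,
      Commute z (g * (c * z * c⁻¹) * g⁻¹) := by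
    intro c hc hfc z hz g hg
    obtain ⟨h, hh, rfl⟩ := fpf_surj N hfc hg
    set z' := h⁻¹ * z * h with hz'
    have hz'N : z' ∈ N := by simpa [hz'] using ‹N.Normal›.conj_mem _ hz h⁻¹
    have p1 : pr z' c = 1 := fpf_prod N hc hfc hz'N
    have p2 : pr z'⁻¹ c = 1 := fpf_prod N hc hfc (inv_mem hz'N)
    have e1 : z' * (c * z' * c⁻¹) = (c⁻¹ * z' * c)⁻¹ := eq_inv_of_mul_eq_one_left p1
    have e2 : c * z' * c⁻¹ * z' = (c⁻¹ * z' * c)⁻¹ := by
      have e3 : z'⁻¹ * (c * z'⁻¹ * c⁻¹) = (c⁻¹ * z'⁻¹ * c)⁻¹ := eq_inv_of_mul_eq_one_left p2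
      calc c * z' * c⁻¹ * z' = (z'⁻¹ * (c * z'⁻¹ * c⁻¹))⁻¹ := by group
        _ = _ := by rw [e3]; group
    have hcom : Commute z' (c * z' * c⁻¹) := e1.trans e2.symm
    have h3 : Commute (h * z' * h⁻¹) (h * (c * z' * c⁻¹) * h⁻¹) := (Commute.conj_iff h).mpr hcom
    rw [show h * z' * h⁻¹ = z by rw [hz']; group,
      show h * (c * z' * c⁻¹) * h⁻¹ = h * c * h⁻¹ * c⁻¹ * (c * z * c⁻¹) * (h * c * h⁻¹ * c⁻¹)⁻¹ by
        rw [hz']; group] at h3
    exact h3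
  have hfix' : ∀ z ∈ N, b⁻¹ * z = z * b⁻¹ → z = 1 := fun z hz e => hfix z hz (by
    calc b * z = b * (z * b⁻¹) * b := by group
      _ = b * (b⁻¹ * z) * b := by rw [e]
      _ = _ := by group)
  have c1 := key b hb hfix x hx y hy
  have c2 := key b⁻¹ (by rw [inv_pow, hb, inv_one]) hfix' x hx y hy
  rw [inv_inv] at c2
  have e : y * x⁻¹ * y⁻¹ = y * (b * x * b⁻¹) * y⁻¹ * (y * (b⁻¹ * x * b) * y⁻¹) := by
    have p1 : x * (b * x * b⁻¹) * (b⁻¹ * x * b) = 1 := fpf_prod N hb hfix hx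
    rw [mul_assoc] at p1
    rw [← eq_inv_of_mul_eq_one_right p1]
    group
  have h3 : Commute x (y * x⁻¹ * y⁻¹) := e ▸ c1.mul_right c2
  have := h3.inv_right
  rwa [show (y * x⁻¹ * y⁻¹)⁻¹ = y * x * y⁻¹ by group] at this

end

theorem no_sym_four : ∀ r : alternatingGroup (Fin 5), r * r * r = 1 → r ≠ 1 →
    ∀ v : alternatingGroup (Fin 5), v * v = 1 → v ≠ 1 →
      v * (r * v * r⁻¹) * (r⁻¹ * v * r) = 1 → v * (r * v * r⁻¹) = r * v * r⁻¹ * v →
      ∀ s : alternatingGroup (Fin 5), s * r * s⁻¹ = r⁻¹ → s * s = 1 → s * v = v * s → False := by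
  decide +kernel

theorem four_cycle : ∀ r : alternatingGroup (Fin 5), r * r * r = 1 → r ≠ 1 →
    ∀ s : alternatingGroup (Fin 5), s * s = 1 → s ≠ 1 → ∃ h : alternatingGroup (Fin 5),
      (h * r * h⁻¹) * ((h * r * h⁻¹) * s * (h * r * h⁻¹)⁻¹) * (h * r * h⁻¹)⁻¹ =
          s * ((h * r * h⁻¹) * s * (h * r * h⁻¹)⁻¹) ∧
        s * ((h * r * h⁻¹) * s * (h * r * h⁻¹)⁻¹) = (h * r * h⁻¹) * s * (h * r * h⁻¹)⁻¹ * s := by
  decide +kernel

theorem sym_three_split : ∀ r : Equiv.Perm (Fin 3), r * r * r = 1 → r ≠ 1 →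
    ∀ s : Equiv.Perm (Fin 3), s * r * s⁻¹ = r⁻¹ → ∀ x : Equiv.Perm (Fin 3), x * s = s * x → x = 1 ∨ x * s = 1 := by
  decide +kernel

theorem sym_three_four : ∀ r : Equiv.Perm (Fin 3), r * r * r = 1 → r ≠ 1 →
    ∀ v : Equiv.Perm (Fin 3), v * v = 1 → v * (r * v * r⁻¹) = r * v * r⁻¹ * v → v = 1 := by
  decide +kernel

/-- The quadratic identity for a fixed-point-free element permuting three involutions of a four group. -/
theorem quad_fixed {V : Type*} [CommGroup V] (hexp : ∀ x : V, x * x = 1)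
    (t0 t1 t2 g g' : V →* V)
    (h00 : ∀ x, t0 (t0 x) = x) (h01 : ∀ x, t0 (t1 x) = t2 x) (h02 : ∀ x, t0 (t2 x) = t1 x)
    (h20 : ∀ x, t2 (t0 x) = t1 x)
    (hg : ∀ x, g (t0 x) = t1 (g x)) (hg' : ∀ x, g' (t0 x) = t2 (g' x))
    (hsum : ∀ x, x * g x * g' x = 1) (e : V) : t2 (e * t0 e) = e * t0 e := by
  have hinv : ∀ x : V, x⁻¹ = x := fun x => inv_eq_of_mul_eq_one_left (hexp x)
  have hg'e : g' e = e * g e := by
    rw [← hinv (e * g e)]
    exact eq_inv_of_mul_eq_one_right (hsum e)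
  have h1 : t0 e * t2 e * t1 (g e) * t2 (g e) = 1 := by
    have := hsum (e * t0 e)
    rw [map_mul g, map_mul g', hg, hg', hg'e, map_mul t2] at this
    calc t0 e * t2 e * t1 (g e) * t2 (g e)
        = (e * e) * (g e * g e) * (t0 e * t2 e * t1 (g e) * t2 (g e)) := by simp [hexp]
      _ = e * t0 e * (g e * t1 (g e)) * (e * g e * (t2 e * t2 (g e))) := by
          simp only [mul_assoc, mul_comm, mul_left_comm]
      _ = 1 := this
  have h2 : e * t1 e * t2 (g e) * t1 (g e) = 1 := by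
    have := congrArg t0 h1
    rwa [map_mul, map_mul, map_mul, map_one, h00, h02, h01, h02] at this
  have h3 : e * t0 e * (t1 e * t2 e) = 1 := by
    calc e * t0 e * (t1 e * t2 e)
        = e * t0 e * (t1 e * t2 e) * ((t1 (g e) * t1 (g e)) * (t2 (g e) * t2 (g e))) := by simp [hexp]
      _ = (t0 e * t2 e * t1 (g e) * t2 (g e)) * (e * t1 e * t2 (g e) * t1 (g e)) := by
          simp only [mul_assoc, mul_comm, mul_left_comm]
      _ = 1 := by rw [h1, h2, one_mul]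
  rw [map_mul, h20, mul_comm (t2 e), eq_inv_of_mul_eq_one_left h3, hinv]

end Cfsg.Agent.GLThreeAmalgam
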