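/-
The amalgam of two groups of shape `3^2:GL(2,3)` in coordinates.

Main definitions: `Amal`, `Amal.swap`.
Main result: `exists_amal`.
-/
import Cfsg.Prelude.Def_Solvable
import Cfsg.Agent.Lib.PReduced.Basic
import Cfsg.Agent.Lib.GLThreeAmalgam.Coord
import Mathlib.GroupTheory.Sylow
import Mathlib.LinearAlgebra.Matrix.GeneralLinearGroup.Card
import Mathlib.Algebra.Field.ZMod

set_option autoImplicit false

namespace Cfsg.Agent.GLThreeAmalgam

open Subgroup

/-- Two coordinate embeddings of AGL(2,3) generating the group and agreeing on their common part. -/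
structure Amal (G : Type*) [Group G] where
  tA : Aff →* G
  tB : Aff →* G
  injA : Function.Injective tA
  injB : Function.Injective tB
  ab : tB aM = tA bM
  ba : tB bM = tA aM
  cc : tB cM = (tA cM)⁻¹
  pq : tB pM = tA qM
  qp : tB qM = tA pM
  cent : ∀ x, x * tA cM = tA cM * x → x ∈ tA.range ∧ x ∈ tB.range
  gen : tA.range ⊔ tB.range = ⊤
  notBA : ¬ tB.range ≤ tA.range
  notAB : ¬ tA.range ≤ tB.range

/-- The amalgam with the two sides exchanged. -/
def Amal.swap {G : Type*} [Group G] (h : Amal G) : Amal G where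
  tA := h.tB
  tB := h.tA
  injA := h.injB
  injB := h.injA
  ab := h.ba.symm
  ba := h.ab.symm
  cc := by rw [h.cc, inv_inv]
  pq := h.qp.symm
  qp := h.pq.symm
  cent := fun x hx => by
    rw [h.cc] at hx
    have : x * h.tA cM = h.tA cM * x := by
      calc x * h.tA cM = h.tA cM * ((h.tA cM)⁻¹ * x) * h.tA cM := by group
        _ = h.tA cM * (x * (h.tA cM)⁻¹) * h.tA cM := by rw [hx]
        _ = _ := by group
    exact (h.cent x this).symm
  gen := by rw [sup_comm]; exact h.gen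
  notBA := h.notAB
  notAB := h.notBA

theorem card_of_quotient {X : Type*} [Group X] [Finite X] (Q : Subgroup X) [Q.Normal]
    (e : X ⧸ Q ≃* GL (Fin 2) (ZMod 3)) (h9 : Nat.card Q = 9) : Nat.card X = 432 := by
  have : Fact (Nat.Prime 3) := ⟨Nat.prime_three⟩
  rw [Subgroup.card_eq_card_quotient_mul_card_subgroup Q, Nat.card_congr e.toEquiv, h9,
    Matrix.card_GL_field, Fin.prod_univ_two, ZMod.card]
  norm_num

theorem mem_or_mem_of_le_union {H : Type*} [Group H] {R K L : Subgroup H}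
    (h : ∀ x ∈ R, x ∈ K ∨ x ∈ L) : R ≤ K ∨ R ≤ L := by
  by_contra hh
  rw [not_or, SetLike.not_le_iff_exists, SetLike.not_le_iff_exists] at hh
  obtain ⟨⟨x, hx, hxK⟩, ⟨y, hy, hyL⟩⟩ := hh
  have hxL := (h x hx).resolve_left hxK
  have hyK := (h y hy).resolve_right hyL
  rcases h (x * y) (mul_mem hx hy) with h1 | h1
  · exact hxK ((mul_mem_cancel_right hyK).mp h1)
  · exact hyL ((mul_mem_cancel_left hxL).mp h1)

/-- The coordinates of an amalgam as in the statement. -/
theorem exists_amal {G : Type*} [Group G] [Finite G]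
    (A B : Subgroup G) (hAB : Nat.card A = Nat.card B) (hgen : A ⊔ B = ⊤)
    (hSylA : ¬ 3 ∣ ((A ⊓ B).subgroupOf A).index) (hSylB : ¬ 3 ∣ ((A ⊓ B).subgroupOf B).index)
    (hcore : ∀ N : Subgroup G, N ≤ A ⊓ B → (∀ a ∈ A, N.map (MulAut.conj a).toMonoidHom = N) →
      (∀ b ∈ B, N.map (MulAut.conj b).toMonoidHom = N) → N = ⊥)
    (hA : Nat.card A = 432)
    (hOA : IsMulCommutative (Cfsg.pCore 3 A) ∧ (∀ x ∈ Cfsg.pCore 3 A, x ^ 3 = 1) ∧ Nat.card (Cfsg.pCore 3 A) = 9 ∧
      Subgroup.centralizer ((Cfsg.pCore 3 A : Subgroup A) : Set A) = Cfsg.pCore 3 A)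
    (hOB : IsMulCommutative (Cfsg.pCore 3 B) ∧ (∀ x ∈ Cfsg.pCore 3 B, x ^ 3 = 1) ∧ Nat.card (Cfsg.pCore 3 B) = 9 ∧
      Subgroup.centralizer ((Cfsg.pCore 3 B : Subgroup B) : Set B) = Cfsg.pCore 3 B)
    (S : Sylow 3 ↥(A ⊓ B)) (Z : Subgroup G)
    (hZ : Z = ((S : Subgroup ↥(A ⊓ B)) ⊓ Subgroup.centralizer ((S : Subgroup ↥(A ⊓ B)) : Set ↥(A ⊓ B))).map (A ⊓ B).subtype)
    (hNZ : Subgroup.normalizer (Z : Set G) ≤ A ⊓ B) : Nonempty (Amal G) := by
  classical
  have : Fact (Nat.Prime 3) := ⟨Nat.prime_three⟩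
  have hB : Nat.card B = 432 := hAB ▸ hA
  let C : Subgroup G := A ⊓ B
  set QA : Subgroup A := Cfsg.pCore 3 A
  set QB : Subgroup B := Cfsg.pCore 3 B
  have nA : QA.Normal := PReduced.pCore_normal 3 A
  have nB : QB.Normal := PReduced.pCore_normal 3 B
  let S' : Subgroup G := (S : Subgroup C).map C.subtype
  have hS'C : S' ≤ C := map_subtype_le _
  have hS'p : IsPGroup 3 S' := S.2.map _
  have hS'rel : ∀ (K : Subgroup G), C ≤ K → ¬ 3 ∣ (C.subgroupOf K).index →
      ¬ 3 ∣ (S'.subgroupOf K).index := by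
    intro K hK hd h3
    have e : S'.relIndex C * C.relIndex K = S'.relIndex K := relIndex_mul_relIndex _ _ _ hS'C hK
    have e' : S'.relIndex C = (S : Subgroup C).index := by
      show (S'.subgroupOf C).index = _
      congr 1
      exact comap_map_eq_self_of_injective C.subtype_injective _
    change 3 ∣ S'.relIndex K at h3
    rw [← e, e'] at h3
    rcases Nat.prime_three.dvd_mul.mp h3 with h | h
    · exact S.not_dvd_index h
    · exact hd h
  have hcoreS : ∀ (K : Subgroup G), C ≤ K → ¬ 3 ∣ (C.subgroupOf K).index →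
      (Cfsg.pCore 3 K).map K.subtype ≤ S' := by
    intro K hK hd
    have hp : IsPGroup 3 (S'.subgroupOf K) := hS'p.comap_of_injective K.subtype K.subtype_injective
    let T : Sylow 3 K := hp.toSylow (hS'rel K hK hd)
    rintro _ ⟨y, hy, rfl⟩
    exact mem_subgroupOf.mp (PReduced.pCore_le_sylow T hy)
  have hQA : ∀ y ∈ QA, (y : G) ∈ S' := fun y hy => hcoreS A inf_le_left hSylA ⟨y, hy, rfl⟩
  have hQB : ∀ y ∈ QB, (y : G) ∈ S' := fun y hy => hcoreS B inf_le_right hSylB ⟨y, hy, rfl⟩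
  have hS'A : S' ≤ A := hS'C.trans inf_le_left
  have h27 : Nat.card S' = 27 := by
    have h := (S'.subgroupOf A).card_mul_index
    rw [hA, Nat.card_congr (subgroupOfEquivOfLe hS'A).toEquiv] at h
    obtain ⟨k, hk⟩ := IsPGroup.iff_card.mp hS'p
    have hd := hS'rel A inf_le_left hSylA
    have hk5 : k < 6 := by
      by_contra hh
      have h1 : 3 ^ 6 ∣ Nat.card S' := hk ▸ pow_dvd_pow 3 (not_lt.mp hh)
      have h2 := Nat.le_of_dvd (by norm_num) ((h1.trans (Dvd.intro _ rfl)).trans (dvd_of_eq h))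
      norm_num at h2
    rw [hk] at h ⊢
    set ι := (S'.subgroupOf A).index
    interval_cases k <;> omega
  have hmemZ : ∀ z, z ∈ Z ↔ z ∈ S' ∧ ∀ s ∈ S', s * z = z * s := by
    intro z
    rw [hZ, Subgroup.mem_map]
    constructor
    · rintro ⟨w, ⟨hw, hw'⟩, rfl⟩
      refine ⟨⟨w, hw, rfl⟩, ?_⟩
      rintro _ ⟨s, hs, rfl⟩
      exact congrArg C.subtype (mem_centralizer_iff.mp hw' s hs)
    · rintro ⟨⟨w, hw, rfl⟩, hc⟩
      exact ⟨w, ⟨hw, mem_centralizer_iff.mpr fun s hs => Subtype.ext (hc _ ⟨s, hs, rfl⟩)⟩, rfl⟩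
  have hZQ : ∀ z ∈ Z, ∃ y ∈ QA, (y : G) = z := by
    intro z hz
    obtain ⟨hz1, hz2⟩ := (hmemZ z).mp hz
    refine ⟨⟨z, hS'A hz1⟩, ?_, rfl⟩
    rw [← hOA.2.2.2, mem_centralizer_iff]
    exact fun y hy => Subtype.ext (hz2 _ (hQA y hy))
  obtain ⟨v0, hv0, hv0ne⟩ : ∃ v ∈ Z, v ≠ 1 := by
    have : Nontrivial S' := Finite.one_lt_card_iff_nontrivial.mp (by omega)
    have := hS'p.center_nontrivial
    obtain ⟨w, hw⟩ := exists_ne (1 : center S')
    refine ⟨((w : S') : G), (hmemZ _).mpr ⟨(w : S').2, fun s hs => ?_⟩, fun e => hw (Subtype.ext (Subtype.ext e))⟩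
    exact congrArg Subtype.val (mem_center_iff.mp w.2 ⟨s, hs⟩)
  obtain ⟨vA, hvA, hvAe⟩ := hZQ v0 hv0
  have hvne : vA ≠ 1 := fun e => hv0ne (by rw [← hvAe, e]; rfl)
  have hex : ∀ y ∈ QA, y ^ 3 = 1 := hOA.2.1
  have hord : Nat.card (zpowers vA) = 3 := by
    rw [Nat.card_zpowers]
    exact orderOf_eq_prime (hex _ hvA) hvne
  obtain ⟨uA, huA, huv⟩ : ∃ u ∈ QA, u ∉ zpowers vA := by
    by_contra hh
    simp only [not_exists, not_and, not_not] at hh
    have := Subgroup.card_le_of_le (show QA ≤ zpowers vA from hh)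
    rw [hord, hOA.2.2.1] at this
    omega
  have hcomA : ∀ x ∈ QA, ∀ y ∈ QA, x * y = y * x := fun x hx y hy =>
    PReduced.commute_of_isMulCommutative hOA.1 hx hy
  have bA : Basis QA uA vA :=
    ⟨nA, hcomA, hex, hOA.2.2.1, hOA.2.2.2, huA, hvA, hvne, huv⟩
  have hZeq : ∀ z ∈ Z, ∃ y ∈ zpowers vA, (y : G) = z := by
    intro z hz
    obtain ⟨y, hy, rfl⟩ := hZQ z hz
    refine ⟨y, ?_, rfl⟩
    by_contra hyv
    have b' : Basis QA y vA := ⟨nA, hcomA, hex, hOA.2.2.1, hOA.2.2.2, hy, hvA, hvne, hyv⟩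
    have hall : ∀ x ∈ QA, (x : G) ∈ Z := by
      intro x hx
      obtain ⟨w, rfl⟩ := b'.exists_pt hx
      simp only [Basis.pt, Subgroup.coe_mul, Subgroup.coe_pow, hvAe]
      exact mul_mem (pow_mem hz _) (pow_mem hv0 _)
    have hle : S'.subgroupOf A ≤ QA := by
      intro s hs
      rw [← hOA.2.2.2, mem_centralizer_iff]
      exact fun x hx => Subtype.ext (((hmemZ _).mp (hall x hx)).2 _ hs).symm
    have := Subgroup.card_le_of_le hle
    rw [Nat.card_congr (subgroupOfEquivOfLe hS'A).toEquiv, h27, hOA.2.2.1] at this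
    omega
  obtain ⟨tt, htt, httu, httv⟩ := bA.exists_inverter hA
  obtain ⟨θ0, hθ0, hθa, hθc, -⟩ := bA.exists_coord hA htt httu httv
  let θA : Aff →* G := A.subtype.comp θ0
  have iA : Function.Injective θA := A.subtype_injective.comp hθ0.1
  have rA : θA.range = A := by
    rw [MonoidHom.range_comp, MonoidHom.range_eq_top.mpr hθ0.2, ← MonoidHom.range_eq_map, range_subtype]
  have hcA : θA cM = v0 := by simp [θA, hθc, hvAe]
  have hZp : ∀ z, z ∈ Z ↔ z ∈ zpowers (θA cM) := by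
    intro z
    rw [hcA]
    refine ⟨fun hz => ?_, fun hz => zpowers_le.mpr hv0 hz⟩
    obtain ⟨y, hy, rfl⟩ := hZeq z hz
    obtain ⟨i, rfl⟩ := mem_zpowers_iff.mp hy
    exact mem_zpowers_iff.mpr ⟨i, by simp [hvAe]⟩
  have hnorm : ∀ x, x * θA cM * x⁻¹ ∈ zpowers (θA cM) → x ∈ C := by
    intro x hx
    refine hNZ ?_
    have hle : Z.map (MulAut.conj x).toMonoidHom ≤ Z := by
      rintro _ ⟨z, hz, rfl⟩
      obtain ⟨i, rfl⟩ := mem_zpowers_iff.mp ((hZp z).mp hz)
      refine (hZp _).mpr ?_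
      show x * θA cM ^ i * x⁻¹ ∈ _
      rw [← conj_zpow]
      exact zpow_mem hx i
    have heq : Z.map (MulAut.conj x).toMonoidHom = Z :=
      eq_of_le_of_card_ge hle
        (Nat.card_congr (equivMapOfInjective Z _ (MulAut.conj x).injective).toEquiv).le
    rw [mem_normalizer_iff]
    intro z
    refine ⟨fun hz => hle ⟨z, hz, rfl⟩, fun hz => ?_⟩
    rw [← heq] at hz
    obtain ⟨w, hw, e⟩ := hz
    exact (MulAut.conj x).injective e ▸ hw
  have hBorC : ∀ σ ∈ Bor, θA σ ∈ C := by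
    intro σ hσ
    refine hnorm _ ?_
    rcases hσ with h | h
    · rw [← map_inv, ← map_mul, ← map_mul, h]; exact mem_zpowers _
    · rw [← map_inv, ← map_mul, ← map_mul, h, map_inv]; exact inv_mem (mem_zpowers _)
  have hnot : ∀ N : Subgroup G, (∀ x ∈ A, ∀ y ∈ N, x * y * x⁻¹ ∈ N) → (∀ x ∈ B, ∀ y ∈ N, x * y * x⁻¹ ∈ N) →
      N ≤ C → N = ⊥ := by
    intro N h1 h2 hN
    refine hcore N hN ?_ ?_
    all_goals
      intro x hx
      refine eq_of_le_of_card_ge ?_ (Nat.card_congr (equivMapOfInjective N _ (MulAut.conj x).injective).toEquiv).le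
      rintro _ ⟨y, hy, rfl⟩
    · exact h1 x hx y hy
    · exact h2 x hx y hy
  have hQne : QA.map A.subtype ≠ ⊥ := by
    intro e
    have := Nat.card_congr (equivMapOfInjective QA A.subtype A.subtype_injective).toEquiv
    rw [e, hOA.2.2.1, card_bot] at this
    omega
  have hQAn : ∀ x ∈ A, ∀ y ∈ QA.map A.subtype, x * y * x⁻¹ ∈ QA.map A.subtype := by
    rintro x hx _ ⟨y, hy, rfl⟩
    exact ⟨⟨x, hx⟩ * y * ⟨x, hx⟩⁻¹, nA.conj_mem y hy _, rfl⟩
  have hAneB : A ≠ B := by
    intro e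
    exact hQne (hnot _ hQAn (fun x hx => hQAn x (e ▸ hx)) ((hcoreS A inf_le_left hSylA).trans hS'C))
  have hnAB : ¬ A ≤ B := fun h => hAneB (eq_of_le_of_card_ge h hAB.ge)
  have hnBA : ¬ B ≤ A := fun h => hAneB (eq_of_le_of_card_ge h hAB.le).symm
  have hCBor : ∀ σ, θA σ ∈ C → σ ∈ Bor := by
    intro σ hσ
    rcases bruhat σ with h | ⟨k, -, j, -, e⟩
    · exact h
    exfalso
    set g := bM ^ k * pM ^ j * nM
    obtain ⟨h1, h2, h3, h4, h5, -⟩ := six_mem_bor
    have hb : g⁻¹ * σ ∈ Bor := mem_bor.mpr (Or.inl (by rw [mul_assoc, e]; group))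
    have hg : θA g ∈ C := by
      have := mul_mem hσ (inv_mem (hBorC _ hb))
      rwa [← map_inv, ← map_mul, show σ * (g⁻¹ * σ)⁻¹ = g by group] at this
    have hn : θA nM ∈ C := by
      have := mul_mem (inv_mem (hBorC _ (mul_mem (pow_mem h2 k) (pow_mem h4 j)))) hg
      rwa [← map_inv, ← map_mul, show (bM ^ k * pM ^ j)⁻¹ * g = nM from inv_mul_cancel_left _ _] at this
    refine hnAB (fun x hx => ?_)
    rw [← rA] at hx
    obtain ⟨τ, rfl⟩ := hx
    have hall : ∀ τ, θA τ ∈ C := by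
      have : closure (Set.range sixM) ≤ C.comap θA := (closure_le _).mpr (by
        rintro _ ⟨i, rfl⟩
        fin_cases i
        exacts [hBorC _ h1, hBorC _ h2, hBorC _ h3, hBorC _ h4, hBorC _ h5, hn, by simp [sixM, one_mem]])
      rw [closure_six] at this
      exact fun τ => this (mem_top τ)
    exact (hall τ).2
  have hex' : ∀ y ∈ QB, y ^ 3 = 1 := hOB.2.1
  have hcomB : ∀ x ∈ QB, ∀ y ∈ QB, x * y = y * x := fun x hx y hy =>
    PReduced.commute_of_isMulCommutative hOB.1 hx hy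
  let R : Subgroup Aff := (QB.map B.subtype).comap θA
  have hRC : ∀ σ ∈ R, θA σ ∈ C := fun σ hσ => by
    obtain ⟨y, hy, e⟩ := hσ
    rw [← e]
    exact hS'C (hQB y hy)
  have hRcase : ∀ σ ∈ R, σ ∈ closure {aM, cM} ∨ σ ∈ closure {bM, cM} := by
    intro σ hσ
    have hb := hCBor σ (hRC σ hσ)
    obtain ⟨y, hy, e⟩ := hσ
    have hq : θA qM ∈ C := hBorC _ six_mem_bor.2.2.2.2.1
    have hy' : (⟨θA qM, hq.2⟩ : B) * y * (⟨θA qM, hq.2⟩ : B)⁻¹ ∈ QB := nB.conj_mem y hy _
    have c1 : σ * σ * σ = 1 := iA (by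
      have := congrArg Subtype.val (hex' y hy)
      rw [Subgroup.coe_pow, pow_succ, pow_two, show (y : G) = θA σ from e] at this
      simpa using this)
    have c2 : σ * (qM * σ * qM) = qM * σ * qM * σ := iA (by
      have h' := congrArg Subtype.val (hcomB y hy _ hy')
      simp only [Subgroup.coe_mul, Subgroup.coe_inv, show (y : G) = θA σ from e] at h'
      have hqq : (θA qM)⁻¹ = θA qM := by
        rw [← map_inv, show qM⁻¹ = qM from aff_eq_iff.mpr (by decide +kernel)]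
      rw [hqq] at h'
      simpa [map_mul] using h')
    obtain ⟨i, -, j, -, h | h⟩ := abelian_cases σ hb c1 c2
    · exact Or.inl (h ▸ mul_mem (pow_mem (subset_closure (by simp)) i) (pow_mem (subset_closure (by simp)) j))
    · exact Or.inr (h ▸ mul_mem (pow_mem (subset_closure (by simp)) i) (pow_mem (subset_closure (by simp)) j))
  have hQBA : ∀ y ∈ QB, ∃ σ ∈ R, θA σ = y := by
    intro y hy
    have : (y : G) ∈ θA.range := rA.symm ▸ (hS'C (hQB y hy)).1
    obtain ⟨σ, hσ⟩ := this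
    exact ⟨σ, ⟨y, hy, hσ.symm⟩, hσ⟩
  have hR2 : R ≤ closure {bM, cM} := by
    rcases mem_or_mem_of_le_union hRcase with h | h
    · exfalso
      have hle : QB.map B.subtype ≤ QA.map A.subtype := by
        rintro _ ⟨y, hy, rfl⟩
        obtain ⟨σ, hσ, e⟩ := hQBA y hy
        have hsub : closure {aM, cM} ≤ (QA.map A.subtype).comap θA := (closure_le _).mpr (by
          rintro x (rfl | rfl)
          · exact ⟨uA, huA, by simp [θA, hθa]⟩
          · exact ⟨vA, hvA, by simp [θA, hθc]⟩)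
        have hm := hsub (h hσ)
        rw [mem_comap, e] at hm
        exact hm
      have heq := eq_of_le_of_card_ge hle (le_of_eq (by
        rw [← Nat.card_congr (equivMapOfInjective QA A.subtype A.subtype_injective).toEquiv,
          ← Nat.card_congr (equivMapOfInjective QB B.subtype B.subtype_injective).toEquiv,
          hOA.2.2.1, hOB.2.2.1]))
      refine hQne (hnot _ hQAn ?_ ((hcoreS A inf_le_left hSylA).trans hS'C))
      rw [← heq]
      rintro x hx _ ⟨y, hy, rfl⟩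
      exact ⟨⟨x, hx⟩ * y * ⟨x, hx⟩⁻¹, nB.conj_mem y hy _, rfl⟩
    · exact h
  let f : Fin 3 × Fin 3 → G := fun k => θA bM ^ k.1.val * θA cM ^ k.2.val
  have hclosure : ∀ σ ∈ closure ({bM, cM} : Set Aff), ∃ k, f k = θA σ := by
    intro σ hσ
    have : ∃ i < 3, ∃ j < 3, σ = bM ^ i * cM ^ j := by
      induction hσ using closure_induction'' with
      | mem x hx =>
        rcases hx with rfl | rfl
        · exact ⟨1, by norm_num, 0, by norm_num, by simp⟩
        · exact ⟨0, by norm_num, 1, by norm_num, by simp⟩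
      | inv_mem x hx =>
        rcases hx with rfl | rfl
        · exact ⟨2, by norm_num, 0, by norm_num, aff_eq_iff.mpr (by decide +kernel)⟩
        · exact ⟨0, by norm_num, 2, by norm_num, aff_eq_iff.mpr (by decide +kernel)⟩
      | one => exact ⟨0, by norm_num, 0, by norm_num, by simp⟩
      | mul x y _ _ hx hy =>
        obtain ⟨i, hi, j, hj, rfl⟩ := hx
        obtain ⟨k, hk, l, hl, rfl⟩ := hy
        refine ⟨(i + k) % 3, Nat.mod_lt _ (by norm_num), (j + l) % 3, Nat.mod_lt _ (by norm_num), ?_⟩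
        have e3 : ∀ g : Aff, g * g * g = 1 → ∀ m, g ^ m = g ^ (m % 3) := fun g hg m =>
          pow_eq_pow_mod m (by rw [pow_succ, pow_two, hg])
        rw [← e3 bM (aff_eq_iff.mpr (by decide +kernel)), ← e3 cM (aff_eq_iff.mpr (by decide +kernel))]
        have hc : Commute cM bM := aff_eq_iff.mpr (by decide +kernel)
        rw [pow_add, pow_add, mul_assoc, mul_assoc, ← mul_assoc (cM ^ j), (hc.pow_pow j k).eq, mul_assoc]
    obtain ⟨i, hi, j, hj, rfl⟩ := this
    exact ⟨(⟨i, hi⟩, ⟨j, hj⟩), by simp [f]⟩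
  have hbc : θA bM ∈ QB.map B.subtype ∧ θA cM ∈ QB.map B.subtype := by
    have hQ : ∀ y : QB.map B.subtype, ∃ k, f k = y := by
      rintro ⟨_, y, hy, rfl⟩
      obtain ⟨σ, hσ, e⟩ := hQBA y hy
      obtain ⟨k, hk⟩ := hclosure σ (hR2 hσ)
      exact ⟨k, hk.trans e⟩
    choose g hg using hQ
    have hgi : Function.Injective g := fun a b e => Subtype.ext (by rw [← hg a, ← hg b, e])
    have hgb := (Nat.bijective_iff_injective_and_card g).mpr ⟨hgi, by
      rw [← Nat.card_congr (equivMapOfInjective QB B.subtype B.subtype_injective).toEquiv, hOB.2.2.1]; simp⟩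
    obtain ⟨y1, e1⟩ := hgb.2 (1, 0)
    obtain ⟨y2, e2⟩ := hgb.2 (0, 1)
    have h1 := hg y1; have h2 := hg y2
    rw [e1] at h1; rw [e2] at h2
    simp only [f, Fin.val_one, Fin.val_zero, pow_one, pow_zero, mul_one, one_mul] at h1 h2
    exact ⟨h1 ▸ y1.2, h2 ▸ y2.2⟩
  obtain ⟨⟨ub, hub, hubE⟩, ⟨vb, hvb, hvbE⟩⟩ := hbc
  simp only [Subgroup.coe_subtype] at hubE hvbE
  have bB : Basis QB ub vb⁻¹ := by
    refine ⟨nB, hcomB, hex', hOB.2.2.1, hOB.2.2.2, hub, inv_mem hvb, fun e => ?_, fun hmem => ?_⟩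
    · apply hv0ne
      rw [inv_eq_one] at e
      rw [← hcA, ← hvbE, e]; rfl
    · obtain ⟨i, hi⟩ := mem_zpowers_iff.mp hmem
      have e : bM = (cM⁻¹) ^ i := iA (by
        rw [map_zpow, map_inv, ← hubE, ← hvbE, ← hi]; simp)
      have hcomm : aM * bM = bM * aM := by
        rw [e]
        exact ((show Commute aM cM from aff_eq_iff.mpr (by decide +kernel)).inv_right.zpow_right i).eq
      exact absurd (aff_eq_iff.mp hcomm) (by decide +kernel)
  have hq : θA qM ∈ B := (hBorC _ six_mem_bor.2.2.2.2.1).2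
  set tb : B := ⟨θA qM, hq⟩
  obtain ⟨θ1, hθ1, h1a, h1c, h1p⟩ := bB.exists_coord hB (t := tb)
    (Subtype.ext (by
      show θA qM * θA qM = 1
      rw [← map_mul, show qM * qM = 1 from aff_eq_iff.mpr (by decide +kernel), map_one]))
    (Subtype.ext (by
      simp only [Subgroup.coe_mul, Subgroup.coe_inv, tb, hubE, ← map_inv, ← map_mul]
      exact congrArg θA (aff_eq_iff.mpr (by decide +kernel))))
    (Subtype.ext (by
      simp only [Subgroup.coe_mul, Subgroup.coe_inv, tb, hvbE, ← map_inv, ← map_mul]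
      exact congrArg θA (aff_eq_iff.mpr (by decide +kernel))))
  let θB : Aff →* G := B.subtype.comp θ1
  have iB : Function.Injective θB := B.subtype_injective.comp hθ1.1
  have rB : θB.range = B := by
    rw [MonoidHom.range_comp, MonoidHom.range_eq_top.mpr hθ1.2, ← MonoidHom.range_eq_map, range_subtype]
  have eab : θB aM = θA bM := by simp [θB, h1a, hubE]
  have ecc : θB cM = (θA cM)⁻¹ := by simp [θB, h1c, hvbE]
  have epq : θB pM = θA qM := by simp [θB, h1p, tb]
  have tr : ∀ {y z : Aff}, y = z → θA y = θA z := fun e => congrArg θA e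
  have hpre : ∀ τ ∈ Bor, ∃ y, θB y = θA τ := fun τ hτ => MonoidHom.mem_range.mp (rB.symm ▸ (hBorC τ hτ).2)
  obtain ⟨ya, hya⟩ := hpre _ six_mem_bor.1
  obtain ⟨yp, hyp⟩ := hpre _ six_mem_bor.2.2.2.1
  have eqp : θB qM = θA pM := by
    rw [← eq_qM yp ?_ ?_ ?_, hyp]
    · exact iB (by simp only [map_mul, hyp, epq]; simp only [← map_mul]; exact tr (aff_eq_iff.mpr (by decide +kernel)))
    · exact iB (by simp only [map_mul, hyp, eab]; simp only [← map_mul]; exact tr (aff_eq_iff.mpr (by decide +kernel)))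
    · exact iB (by simp only [map_mul, map_inv, hyp, ecc, inv_inv]; simp only [← map_mul, ← map_inv]; exact tr (aff_eq_iff.mpr (by decide +kernel)))
  have eba : θB bM = θA aM := by
    rw [← eq_bM ya ?_ ?_ ?_, hya]
    · exact iB (by simp only [map_mul, hya, epq]; simp only [← map_mul]; exact tr (aff_eq_iff.mpr (by decide +kernel)))
    · exact iB (by simp only [map_mul, hya, eab, ecc]; simp only [← map_mul, ← map_inv]; exact tr (aff_eq_iff.mpr (by decide +kernel)))
    · exact iB (by simp only [map_mul, hya, ecc]; simp only [← map_mul, ← map_inv]; exact tr (aff_eq_iff.mpr (by decide +kernel)))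
  refine ⟨⟨θA, θB, iA, iB, eab, eba, ecc, epq, eqp, fun x hx => ?_, by rw [rA, rB, hgen], ?_, ?_⟩⟩
  · have hxC : x ∈ C := hnorm x (by rw [hx, mul_inv_cancel_right]; exact mem_zpowers _)
    exact ⟨rA.symm ▸ hxC.1, rB.symm ▸ hxC.2⟩
  · rw [rA, rB]; exact hnBA
  · rw [rA, rB]; exact hnAB

end Cfsg.Agent.GLThreeAmalgam
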