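/-
The centraliser of the central involution of a complement in a GL(2,3)-amalgam.

Main definition: `Loc`.
Main result: `exists_loc`.
-/
import Cfsg.Agent.S3331
import Cfsg.Agent.Lib.GLThreeAmalgam.Setting
import Cfsg.Agent.Lib.GLThreeAmalgam.Fpf
import Cfsg.Agent.Lib.GLOrder.Basic
import Cfsg.Agent.Lib.PSL2.Soluble
import Mathlib.GroupTheory.Perm.Cycle.Type
import Mathlib.GroupTheory.Perm.Sign

set_option autoImplicit false

namespace Cfsg.Agent.GLThreeAmalgam

open Subgroup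

/-- The structure found in the centraliser of the involution `z`, normalised by the element `e` of order three
and with the involution `r` outside. -/
structure Loc {G : Type*} [Group G] (z e r i : G) (N : Subgroup G) : Prop where
  cz : ∀ y ∈ N, y * z = z * y
  prod : ∀ y ∈ N, pr y e = 1 ∨ pr y e = z
  split : ∀ x, x * z = z * x → x * r = r * x → x ∈ N ∨ x * r ∈ N
  imem : i ∈ N
  conjcomm : ∀ x ∈ N, ∀ y ∈ N, x * (y * x * y⁻¹) = y * x * y⁻¹ * x ∨
    x * (y * x * y⁻¹) = y * x * y⁻¹ * x * z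

theorem pr_map {G H : Type*} [Group G] [Group H] (f : G →* H) (y e : G) : f (pr y e) = pr (f y) (f e) := by
  simp [pr]

variable {G : Type*} [Group G] [Finite G] (h : Amal G)

/-- An element commuting with `tA bM` and `tA pM`. -/
theorem Amal.centralizer_bp (x : G) (hb : x * h.tA bM = h.tA bM * x) (hp : x * h.tA pM = h.tA pM * x) :
    ∃ i < 3, ∃ j < 2, x = h.tA bM ^ i * h.tA pM ^ j := by
  set m := h.tB nM
  have hm2 : m * m = 1 := by
    rw [← map_mul, show nM * nM = 1 from aff_eq_iff.mpr (by decide +kernel), map_one]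
  have hmi : m⁻¹ = m := inv_eq_of_mul_eq_one_left hm2
  have hmb : m * h.tA bM * m = h.tB cM := by
    rw [← h.ab, ← map_mul, ← map_mul]
    exact congrArg h.tB (aff_eq_iff.mpr (by decide +kernel))
  have h1 : (m * x * m) * h.tA cM = h.tA cM * (m * x * m) := by
    have e : (m * x * m) * h.tB cM = h.tB cM * (m * x * m) := by
      rw [← hmb]
      calc m * x * m * (m * h.tA bM * m) = m * x * (m * m) * h.tA bM * m := by group
        _ = m * (x * h.tA bM) * m := by rw [hm2]; group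
        _ = m * (h.tA bM * x) * m := by rw [hb]
        _ = m * h.tA bM * (1 : G) * x * m := by group
        _ = _ := by rw [← hm2]; group
    rw [h.cc] at e
    calc m * x * m * h.tA cM = h.tA cM * ((h.tA cM)⁻¹ * (m * x * m)) * h.tA cM := by group
      _ = h.tA cM * (m * x * m * (h.tA cM)⁻¹) * h.tA cM := by rw [e]
      _ = _ := by group
  obtain ⟨τ, hτ⟩ := (h.cent _ h1).2
  have hx : x = h.tB (nM * τ * nM) := by
    rw [map_mul, map_mul, hτ]
    show x = m * (m * x * m) * m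
    calc x = (m * m) * x * (m * m) := by rw [hm2, one_mul, mul_one]
      _ = _ := by group
  rw [hx, ← h.ab, ← map_mul, ← map_mul] at hb
  rw [hx, ← h.qp, ← map_mul, ← map_mul] at hp
  obtain ⟨i, hi, j, hj, e⟩ := centralizer_aq _ (h.injB hb) (h.injB hp)
  refine ⟨i, hi, j, hj, ?_⟩
  rw [hx, e, map_mul, map_pow, map_pow, h.ab, h.qp]

theorem sign_of_free {α : Type*} [Fintype α] [DecidableEq α] (π : Equiv.Perm α) (h2 : π * π = 1)
    (hfree : ∀ x, π x ≠ x) (hc : Fintype.card α = 42) : Equiv.Perm.sign π = -1 := by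
  have hne : π ≠ 1 := by
    intro e
    obtain ⟨x⟩ : Nonempty α := Fintype.card_pos_iff.mp (by omega)
    exact hfree x (by rw [e]; rfl)
  have ho : orderOf π = 2 := orderOf_eq_prime (by rw [pow_two, h2]) hne
  obtain ⟨j, hj⟩ := Equiv.Perm.cycleType_prime_order (σ := π) (by rw [ho]; exact Nat.prime_two)
  have hsum := Equiv.Perm.sum_cycleType π
  rw [ho] at hj
  rw [hj, Multiset.sum_replicate, smul_eq_mul] at hsum
  have hsupp : π.support = Finset.univ := Finset.eq_univ_iff_forall.mpr fun x =>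
    Equiv.Perm.mem_support.mpr (hfree x)
  rw [hsupp, Finset.card_univ, hc] at hsum
  rw [Equiv.Perm.sign_of_cycleType, hj, Multiset.sum_replicate, Multiset.card_replicate, smul_eq_mul,
    show (j + 1) = 21 by omega]
  decide

section cases

variable {H : Type*} [Group H] [Finite H] {p b q i y : H}

/-- The case `PSL(2,7)` is impossible. -/
theorem not_psl_seven (P : Subgroup H) [P.Normal] (hP : ∀ x, x ∈ P ↔ x = 1 ∨ x = p)
    (hpne : p ≠ 1) (hp2 : p * p = 1) (hpc : ∀ x, x * p = p * x) (hqq : q * q = 1) (hqp : q ≠ p)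
    (hq1 : q ≠ 1) (hy : y * y * y * y = p)
    (e : H ⧸ P ≃* Matrix.ProjectiveSpecialLinearGroup (Fin 2) (ZMod 7)) : False := by
  classical
  have : Fact (Nat.Prime 7) := ⟨by norm_num⟩
  have h168 : Nat.card (H ⧸ P) = 168 := by
    rw [Nat.card_congr e.toEquiv, GLOrder.card_PSL_two, Nat.card_zmod]
    rfl
  have hPc : Nat.card P = 2 := by
    have : P = zpowers p := by
      refine le_antisymm (fun x hx => ?_) (zpowers_le.mpr ((hP p).mpr (Or.inr rfl)))
      rcases (hP x).mp hx with rfl | rfl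
      · exact one_mem _
      · exact mem_zpowers _
    rw [this, Nat.card_zpowers]
    exact orderOf_eq_prime (by rw [pow_two, hp2]) hpne
  have hH : Nat.card H = 336 := by
    rw [Subgroup.card_eq_card_quotient_mul_card_subgroup P, h168, hPc]
  have hy4 : y ^ 4 = p := by rw [← hy]; simp [pow_succ]
  have hy8 : orderOf y = 8 := by
    have : orderOf y = 2 ^ (2 + 1) := orderOf_eq_prime_pow (p := 2) (n := 2)
      (by rw [show 2 ^ 2 = 4 by norm_num, hy4]; exact hpne)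
      (by rw [show 2 ^ (2 + 1) = 4 * 2 by norm_num, pow_mul, hy4, pow_two, hp2])
    simpa using this
  set Y := zpowers y
  have hY : Nat.card Y = 8 := by rw [Nat.card_zpowers, hy8]
  have hidx : Nat.card (H ⧸ Y) = 42 := by
    have := Subgroup.card_eq_card_quotient_mul_card_subgroup Y
    rw [hH, hY] at this
    omega
  let _ : Fintype (H ⧸ Y) := Fintype.ofFinite _
  let χ : H →* ℤˣ := Equiv.Perm.sign.comp (MulAction.toPermHom H (H ⧸ Y))
  have hq : χ q = -1 := by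
    refine sign_of_free _ (by rw [← map_mul, hqq, map_one]) (fun c => ?_) (by rw [← Nat.card_eq_fintype_card, hidx])
    induction c using QuotientGroup.induction_on with | H g => ?_
    intro hc
    have hc' : ((q * g : H) : H ⧸ Y) = (g : H ⧸ Y) := hc
    have hm := QuotientGroup.eq.mp hc'
    have hj : g⁻¹ * q * g ∈ Y := by
      have := inv_mem hm
      rwa [show ((q * g)⁻¹ * g)⁻¹ = g⁻¹ * q * g by group] at this
    obtain ⟨k, hk⟩ := mem_zpowers_iff.mp hj
    have hk2 : y ^ (k * 2) = 1 := by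
      rw [zpow_mul, hk, zpow_two]
      calc g⁻¹ * q * g * (g⁻¹ * q * g) = g⁻¹ * (q * q) * g := by group
        _ = 1 := by rw [hqq]; group
    have h8 : (8 : ℤ) ∣ k * 2 := by
      have := orderOf_dvd_iff_zpow_eq_one.mpr hk2
      rwa [hy8] at this
    obtain ⟨k', hk'⟩ : (4 : ℤ) ∣ k := by omega
    rw [hk', zpow_mul, show (y ^ (4 : ℤ)) = p by rw [← hy4]; norm_cast] at hk
    have hor : p ^ k' = 1 ∨ p ^ k' = p := (hP _).mp (zpow_mem ((hP p).mpr (Or.inr rfl)) k')
    have hback : q = g * (p ^ k') * g⁻¹ := by rw [hk]; group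
    rcases hor with h1 | h1 <;> rw [h1] at hback
    · exact hq1 (by rw [hback]; group)
    · exact hqp (by rw [hback, hpc g]; group)
  have hPk : P ≤ χ.ker := fun x hx => by
    rw [MonoidHom.mem_ker]
    rcases (hP x).mp hx with h1 | h1 <;> rw [h1]
    · exact map_one χ
    · rw [← hy4, map_pow]
      rcases Int.units_eq_one_or (χ y) with h | h <;> rw [h] <;> decide
  let χ' : H ⧸ P →* ℤˣ := QuotientGroup.lift P χ hPk
  have : IsSimpleGroup (Matrix.ProjectiveSpecialLinearGroup (Fin 2) (ZMod 7)) :=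
    PSL2.isSimpleGroup_psl (by rw [Nat.card_zmod]; norm_num)
  have : IsSimpleGroup (H ⧸ P) := e.isSimpleGroup
  rcases (inferInstance : χ'.ker.Normal).eq_bot_or_eq_top with hk | hk
  · have := Nat.card_le_card_of_injective χ' ((MonoidHom.ker_eq_bot_iff χ').mp hk)
    rw [h168, Nat.card_eq_fintype_card, Fintype.card_units_int] at this
    omega
  · have : χ' (q : H ⧸ P) = 1 := MonoidHom.mem_ker.mp (hk ▸ mem_top _)
    rw [QuotientGroup.lift_mk, hq] at this
    exact absurd this (by decide)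

/-- The case `A₅` is impossible. -/
theorem not_alt_five (P : Subgroup H) [P.Normal] (hP : ∀ x, x ∈ P ↔ x = 1 ∨ x = p)
    (hpne : p ≠ 1) (hp2 : p * p = 1) (hpc : ∀ x, x * p = p * x) (hb3 : b ^ 3 = 1)
    (hfixb : ∀ x : H ⧸ P, (b : H ⧸ P) * x = x * (b : H ⧸ P) → x ∈ zpowers (b : H ⧸ P))
    (hbne : (b : H ⧸ P) ≠ 1) (hqb : q * b * q⁻¹ = b⁻¹) (hqq : q * q = 1)
    (hi : i * i = p) (hib : i * (b * i * b⁻¹) * (b⁻¹ * i * b) ∈ P)
    (hic : (i * (b * i * b⁻¹))⁻¹ * (b * i * b⁻¹ * i) ∈ P) (hqi : q * i = i * q * p)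
    (N : Subgroup (H ⧸ P)) [N.Normal] (hNc : IsMulCommutative N) (hN2 : ∀ n ∈ N, n ^ 2 = 1)
    (e : (H ⧸ P) ⧸ N ≃* alternatingGroup (Fin 5)) : False := by
  classical
  let φ : H ⧸ P →* alternatingGroup (Fin 5) := e.toMonoidHom.comp (QuotientGroup.mk' N)
  have hφ : ∀ x, φ x = 1 ↔ x ∈ N := fun x => by
    show e (QuotientGroup.mk' N x) = 1 ↔ _
    rw [MulEquiv.map_eq_one_iff, QuotientGroup.mk'_apply, QuotientGroup.eq_one_iff]
  set B : H ⧸ P := QuotientGroup.mk b with hBd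
  set S : H ⧸ P := QuotientGroup.mk q with hSd
  set I : H ⧸ P := QuotientGroup.mk i with hId
  have mk1 : ∀ x : H, x ∈ P → (x : H ⧸ P) = 1 := fun x hx => (QuotientGroup.eq_one_iff x).mpr hx
  have hB3 : B ^ 3 = 1 := by rw [hBd, ← QuotientGroup.mk_pow, hb3]; rfl
  have hB3' : B * B * B = 1 := by rw [← hB3, pow_succ, pow_two]
  have hBN : B ∉ N := fun hh => hbne (by
    have h2 := hN2 B hh
    calc B = B ^ 3 * (B ^ 2)⁻¹ := by group
      _ = 1 := by rw [hB3, h2]; group)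
  have hfixN : ∀ x ∈ N, B * x = x * B → x = 1 := by
    intro x hx hc
    obtain ⟨k, rfl⟩ := mem_zpowers_iff.mp (hfixb x hc)
    have h2 : (B ^ k) ^ (2 : ℕ) = 1 := hN2 _ hx
    have h3 : (B ^ k) ^ (3 : ℕ) = 1 := by
      rw [← zpow_natCast (B ^ k) 3, ← zpow_mul, mul_comm, zpow_mul, zpow_natCast, hB3, one_zpow]
    calc B ^ k = (B ^ k) ^ (3 : ℕ) * ((B ^ k) ^ (2 : ℕ))⁻¹ := by group
      _ = 1 := by rw [h2, h3]; group
  have hSB : S * B * S⁻¹ = B⁻¹ := by
    rw [hSd, hBd, ← QuotientGroup.mk_inv, ← QuotientGroup.mk_mul, ← QuotientGroup.mk_mul, hqb]; rfl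
  have hS2 : S * S = 1 := by rw [hSd, ← QuotientGroup.mk_mul, hqq]; rfl
  have hI2 : I * I = 1 := by
    rw [hId, ← QuotientGroup.mk_mul, hi]; exact mk1 p ((hP p).mpr (Or.inr rfl))
  have hI3 : I * (B * I * B⁻¹) * (B⁻¹ * I * B) = 1 := by
    simpa [hId, hBd] using mk1 _ hib
  have hIc : I * (B * I * B⁻¹) = B * I * B⁻¹ * I := by
    refine inv_mul_eq_one.mp ?_
    simpa [hId, hBd] using mk1 _ hic
  have hSI : S * I = I * S := by
    rw [hSd, hId, ← QuotientGroup.mk_mul, hqi, QuotientGroup.mk_mul, mk1 p ((hP p).mpr (Or.inr rfl)), mul_one]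
    rfl
  have hφB : φ B ≠ 1 := fun h => hBN ((hφ B).mp h)
  have hφS : φ S ≠ 1 := fun h => hφB (by
    have := congrArg φ hSB
    rw [map_mul, map_mul, map_inv, h, one_mul, inv_one, mul_one, map_inv] at this
    have h3 : φ B * φ B * φ B = 1 := by rw [← map_mul, ← map_mul, hB3', map_one]
    have h2 : φ B * φ B = 1 := by
      nth_rewrite 1 [this]
      rw [inv_mul_cancel]
    rwa [h2, one_mul] at h3)
  have hIN : I ∈ N := by
    by_contra hh
    refine no_sym_four (φ B) (by rw [← map_mul, ← map_mul, hB3', map_one]) hφB (φ I)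
      (by rw [← map_mul, hI2, map_one]) (fun h => hh ((hφ I).mp h))
      (by simpa using congrArg φ hI3) (by simpa using congrArg φ hIc) (φ S)
      (by simpa using congrArg φ hSB) (by rw [← map_mul, hS2, map_one])
      (by rw [← map_mul, hSI, map_mul])
  obtain ⟨h0, hh1, hh2⟩ := four_cycle (φ B) (by rw [← map_mul, ← map_mul, hB3', map_one]) hφB (φ S)
    (by rw [← map_mul, hS2, map_one]) hφS
  obtain ⟨hQ, hhQ⟩ : ∃ x, φ x = h0 :=
    (e.surjective.comp (QuotientGroup.mk'_surjective N)) h0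
  subst hhQ
  obtain ⟨hl, rfl⟩ := QuotientGroup.mk'_surjective P hQ
  simp only [QuotientGroup.mk'_apply] at hh1 hh2
  set Γ : H ⧸ P := (hl : H ⧸ P) * B * (hl : H ⧸ P)⁻¹ with hΓ
  rw [← map_inv, ← map_mul, ← map_mul, ← hΓ] at hh1 hh2
  let t0 : H ⧸ P := S
  let t1 : H ⧸ P := Γ * S * Γ⁻¹
  let t2 : H ⧸ P := Γ * t1 * Γ⁻¹
  have h12 : φ t2 = φ t0 * φ t1 := by simpa [t0, t1, t2] using hh1
  have h01c : φ t0 * φ t1 = φ t1 * φ t0 := by simpa [t0, t1] using hh2
  have hN' : ∀ x ∈ N, ∀ z ∈ N, x * z = z * x := fun x hx z hz =>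
    congrArg Subtype.val (hNc.is_comm.comm ⟨x, hx⟩ ⟨z, hz⟩)
  have hact : ∀ a c : H ⧸ P, φ a = φ c → ∀ x ∈ N, a * x * a⁻¹ = c * x * c⁻¹ := by
    intro a c hac x hx
    have hn : c⁻¹ * a ∈ N := (hφ _).mp (by rw [map_mul, map_inv, hac, inv_mul_cancel])
    calc a * x * a⁻¹ = c * ((c⁻¹ * a) * x * (c⁻¹ * a)⁻¹) * c⁻¹ := by group
      _ = _ := by rw [hN' _ hn x hx, mul_inv_cancel_right]
  have hΓ3 : Γ ^ 3 = 1 := by rw [hΓ, conj_pow, hB3]; group
  have hfixΓ : ∀ x ∈ N, Γ * x = x * Γ → x = 1 := by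
    intro x hx hc
    have := hfixN ((hl : H ⧸ P)⁻¹ * x * hl) (by simpa using ‹N.Normal›.conj_mem x hx (hl : H ⧸ P)⁻¹) (by
      calc B * ((hl : H ⧸ P)⁻¹ * x * hl) = (hl : H ⧸ P)⁻¹ * (Γ * x) * hl := by rw [hΓ]; group
        _ = (hl : H ⧸ P)⁻¹ * (x * Γ) * hl := by rw [hc]
        _ = _ := by rw [hΓ]; group)
    calc x = (hl : H ⧸ P) * ((hl : H ⧸ P)⁻¹ * x * hl) * (hl : H ⧸ P)⁻¹ := by group
      _ = 1 := by rw [this]; group
  letI : CommGroup N := { (inferInstance : Group N) with mul_comm := fun a b => hNc.is_comm.comm a b }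
  let c : H ⧸ P → (N →* N) := fun a => (MulAut.conjNormal a).toMonoidHom
  have hcv : ∀ a (x : N), (c a x : H ⧸ P) = a * x * a⁻¹ := fun a x => MulAut.conjNormal_apply a x
  have hcmul : ∀ a a' w, φ (a * a') = φ w → ∀ x, c a (c a' x) = c w x := by
    intro a a' w hw x
    refine Subtype.ext ?_
    rw [hcv, hcv, hcv, ← hact _ _ hw _ x.2]
    group
  have hS0 : φ (S * S) = φ (1 : H ⧸ P) := by rw [hS2]
  have hquad := quad_fixed (V := N) (fun x => Subtype.ext (by
      show (x : H ⧸ P) * x = 1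
      rw [← pow_two]; exact hN2 x x.2)) (c t0) (c t1) (c t2) (c Γ) (c Γ⁻¹)
    (fun x => by rw [hcmul t0 t0 1 hS0]; exact Subtype.ext (by simp [hcv]))
    (hcmul t0 t1 t2 (by rw [map_mul, h12]))
    (hcmul t0 t2 t1 (by rw [map_mul, h12, ← mul_assoc, ← map_mul, hS0, map_one, one_mul]))
    (hcmul t2 t0 t1 (by rw [map_mul, h12, mul_assoc, ← h01c, ← mul_assoc, ← map_mul, hS0, map_one, one_mul]))
    (fun x => by
      rw [hcmul Γ t0 (Γ * S) rfl, hcmul t1 Γ (Γ * S) (by simp [t1, mul_assoc])])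
    (fun x => by
      rw [hcmul Γ⁻¹ t0 (Γ⁻¹ * S) rfl, hcmul t2 Γ⁻¹ (Γ⁻¹ * S) ?_]
      have e1 : t2 * Γ⁻¹ = Γ * Γ * S * (Γ ^ 3)⁻¹ := by
        simp only [t2, t1, pow_succ, pow_zero, one_mul]; group
      have e2 : Γ⁻¹ = Γ * Γ := by
        refine inv_eq_of_mul_eq_one_left ?_
        rw [← hΓ3, pow_succ, pow_two]
      rw [e1, hΓ3, inv_one, mul_one, e2])
    (fun x => Subtype.ext (by
      simp only [Subgroup.coe_mul, hcv, inv_inv]
      exact fpf_prod N hΓ3 hfixΓ x.2))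
  -- every element fixed by `S` is a commutator-free element
  have hdec : ∀ x ∈ N, S * x * S⁻¹ = x → ∃ z : N, x = z * (c t0 z : N) := by
    intro x hx hfix
    refine ⟨⟨B * x * B⁻¹, ‹N.Normal›.conj_mem x hx B⟩, ?_⟩
    rw [hcv]
    show x = B * x * B⁻¹ * (S * (B * x * B⁻¹) * S⁻¹)
    have e1 : S * (B * x * B⁻¹) * S⁻¹ = B⁻¹ * x * B := by
      calc S * (B * x * B⁻¹) * S⁻¹ = (S * B * S⁻¹) * (S * x * S⁻¹) * (S * B * S⁻¹)⁻¹ := by group
        _ = _ := by rw [hfix, hSB, inv_inv]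
    have p1 : x * (B * x * B⁻¹) * (B⁻¹ * x * B) = 1 := fpf_prod N hB3 hfixN hx
    rw [mul_assoc] at p1
    rw [e1, eq_inv_of_mul_eq_one_right p1]
    exact (inv_eq_of_mul_eq_one_left (by rw [← pow_two]; exact hN2 x hx)).symm
  have hIfix : S * I * S⁻¹ = I := by rw [hSI, mul_inv_cancel_right]
  obtain ⟨z1, hz1⟩ := hdec I hIN hIfix
  have ht2I : t2 * I * t2⁻¹ = I := by
    have := congrArg Subtype.val (hquad z1)
    simp only [Subgroup.coe_mul] at this
    rw [hcv t2, Subgroup.coe_mul, ← hz1] at this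
    exact this
  have hJN : Γ * I * Γ⁻¹ ∈ N := ‹N.Normal›.conj_mem I hIN Γ
  have hJfix : S * (Γ * I * Γ⁻¹) * S⁻¹ = Γ * I * Γ⁻¹ := by
    have e1 : φ (S * Γ) = φ (Γ * t2) := by
      have : Γ * t2 = Γ ^ 3 * S * (Γ ^ 3)⁻¹ * Γ := by
        simp only [t2, t1, pow_succ, pow_zero, one_mul]; group
      rw [this, hΓ3]; simp
    calc S * (Γ * I * Γ⁻¹) * S⁻¹ = (S * Γ) * I * (S * Γ)⁻¹ := by group
      _ = (Γ * t2) * I * (Γ * t2)⁻¹ := hact _ _ e1 I hIN
      _ = Γ * (t2 * I * t2⁻¹) * Γ⁻¹ := by group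
      _ = _ := by rw [ht2I]
  obtain ⟨z2, hz2⟩ := hdec _ hJN hJfix
  -- lift to `H`
  obtain ⟨E, hE⟩ := QuotientGroup.mk_surjective (z1 : H ⧸ P)
  obtain ⟨F, hF⟩ := QuotientGroup.mk_surjective (z2 : H ⧸ P)
  set g := hl * b * hl⁻¹ with hgd
  have hgΓ : (g : H ⧸ P) = Γ := by rw [hgd, hΓ, hBd]; simp
  have hPmem : ∀ x z : H, (x : H ⧸ P) = (z : H ⧸ P) → ∃ k ∈ P, x = z * k := fun x z hxz =>
    ⟨z⁻¹ * x, QuotientGroup.eq.mp hxz.symm, by group⟩
  have hcen : ∀ k ∈ P, ∀ x : H, x * k = k * x := fun k hk x => by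
    rcases (hP k).mp hk with h1 | h1 <;> rw [h1]
    · simp
    · exact hpc x
  have hk2 : ∀ k ∈ P, k * k = 1 := fun k hk => by
    rcases (hP k).mp hk with h1 | h1 <;> rw [h1]
    · simp
    · exact hp2
  have hcomm : ∀ X Y : H, (X : H ⧸ P) ∈ N → (Y : H ⧸ P) ∈ N → ∃ k ∈ P, X * Y = Y * X * k := by
    intro X Y hX hY
    exact hPmem _ _ (by rw [QuotientGroup.mk_mul, QuotientGroup.mk_mul]; exact hN' _ hX _ hY)
  have hqN : ∀ X : H, (X : H ⧸ P) ∈ N → ((q * X * q⁻¹ : H) : H ⧸ P) ∈ N := fun X hX => by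
    simp only [QuotientGroup.mk_mul, QuotientGroup.mk_inv]
    exact ‹N.Normal›.conj_mem _ hX _
  have hE' : (E : H ⧸ P) ∈ N := hE ▸ z1.2
  have hF' : (F : H ⧸ P) ∈ N := hF ▸ z2.2
  have hFix : (E * (q * E * q⁻¹)) * (F * (q * F * q⁻¹)) = (F * (q * F * q⁻¹)) * (E * (q * E * q⁻¹)) := by
    obtain ⟨k1, hk1, e1⟩ := hcomm E F hE' hF'
    obtain ⟨k2, hk2', e2⟩ := hcomm E (q * F * q⁻¹) hE' (hqN F hF')
    set E' := q * E * q⁻¹ with hE'd
    set F' := q * F * q⁻¹ with hF'd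
    have hqi' : q⁻¹ = q := inv_eq_of_mul_eq_one_left hqq
    have e3 : E' * F = F * E' * k2 := by
      calc E' * F = q * (E * F') * q⁻¹ := by
            rw [hF'd, hE'd, hqi']
            calc q * E * q * F = q * E * q * F * (q * q) := by rw [hqq, mul_one]
              _ = _ := by group
        _ = q * (F' * E * k2) * q⁻¹ := by rw [e2]
        _ = q * (F' * E) * q⁻¹ * (q * k2 * q⁻¹) := by group
        _ = q * (F' * E) * q⁻¹ * k2 := by rw [hcen k2 hk2' q, mul_inv_cancel_right]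
        _ = _ := by
            rw [hF'd, hE'd, hqi']
            calc q * (q * F * q * E) * q * k2 = (q * q) * F * (q * E * q) * k2 := by group
              _ = _ := by rw [hqq]; group
    have e4 : E' * F' = F' * E' * k1 := by
      calc E' * F' = q * (E * F) * q⁻¹ := by rw [hE'd, hF'd]; group
        _ = q * (F * E) * q⁻¹ * (q * k1 * q⁻¹) := by rw [e1]; group
        _ = q * (F * E) * q⁻¹ * k1 := by rw [hcen k1 hk1 q, mul_inv_cancel_right]
        _ = _ := by rw [hE'd, hF'd]; group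
    calc E * E' * (F * F') = E * (E' * F) * F' := by group
      _ = E * F * E' * (k2 * F') := by rw [e3]; group
      _ = E * F * (E' * F') * k2 := by rw [← hcen k2 hk2' F']; group
      _ = F * E * (k1 * (F' * E')) * k1 * k2 := by rw [e1, e4]; group
      _ = F * (E * F') * E' * k1 * k1 * k2 := by rw [← hcen k1 hk1 (F' * E')]; group
      _ = F * F' * E * (k2 * E') * (k1 * k1) * k2 := by rw [e2]; group
      _ = F * F' * (E * E') * ((k1 * k1) * (k2 * k2)) := by
          rw [← hcen k2 hk2' E', hk2 k1 hk1]; group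
      _ = _ := by rw [hk2 k1 hk1, hk2 k2 hk2', one_mul, mul_one]
  obtain ⟨k, hk, eI⟩ := hPmem i (E * (q * E * q⁻¹)) (by
    simp only [QuotientGroup.mk_mul, QuotientGroup.mk_inv, hE, ← hId]
    rw [hz1, hcv])
  obtain ⟨k', hk', eJ⟩ := hPmem (g * i * g⁻¹) (F * (q * F * q⁻¹)) (by
    simp only [QuotientGroup.mk_mul, QuotientGroup.mk_inv, hF, hgΓ, ← hId]
    rw [hz2, hcv])
  have hij : i * (g * i * g⁻¹) = g * i * g⁻¹ * i := by
    rw [eJ]
    nth_rewrite 1 [eI]
    nth_rewrite 1 [eI]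
    calc E * (q * E * q⁻¹) * k * (F * (q * F * q⁻¹) * k')
        = E * (q * E * q⁻¹) * (k * (F * (q * F * q⁻¹))) * k' := by group
      _ = E * (q * E * q⁻¹) * (F * (q * F * q⁻¹)) * (k * k') := by rw [← hcen k hk]; group
      _ = F * (q * F * q⁻¹) * (E * (q * E * q⁻¹)) * (k' * k) := by rw [hFix, hcen k' hk' k]
      _ = F * (q * F * q⁻¹) * ((E * (q * E * q⁻¹)) * k') * k := by group
      _ = _ := by rw [hcen k' hk' (E * (q * E * q⁻¹))]; group
  have hprod : i * (g * i * g⁻¹) * (g⁻¹ * i * g) ∈ P := by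
    rw [← QuotientGroup.eq_one_iff]
    simp only [QuotientGroup.mk_mul, QuotientGroup.mk_inv, hgΓ, ← hId]
    exact fpf_prod N hΓ3 hfixΓ hIN
  have hgp : ∀ c : H, (c * i * c⁻¹) * (c * i * c⁻¹) = p := fun c => by
    calc c * i * c⁻¹ * (c * i * c⁻¹) = c * (i * i) * c⁻¹ := by group
      _ = _ := by rw [hi, hpc c, mul_inv_cancel_right]
  have hXX : i * (g * i * g⁻¹) * (i * (g * i * g⁻¹)) = 1 := by
    calc i * (g * i * g⁻¹) * (i * (g * i * g⁻¹)) = i * (g * i * g⁻¹ * i) * (g * i * g⁻¹) := by group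
      _ = i * (i * (g * i * g⁻¹)) * (g * i * g⁻¹) := by rw [hij]
      _ = i * i * ((g * i * g⁻¹) * (g * i * g⁻¹)) := by group
      _ = 1 := by rw [hgp g, hi, hp2]
  set X := i * (g * i * g⁻¹)
  have hZ : g⁻¹ * i * g * (g⁻¹ * i * g) = p := by simpa using hgp g⁻¹
  set Z := g⁻¹ * i * g
  have hc2 := hcen _ hprod X⁻¹
  have : Z * Z = 1 := by
    calc Z * Z = X⁻¹ * (X * Z) * (X⁻¹ * (X * Z)) := by rw [inv_mul_cancel_left]
      _ = X⁻¹ * (X * Z) * (X * Z * X⁻¹) := by rw [← hc2]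
      _ = X⁻¹ * ((X * Z) * (X * Z)) * X⁻¹ := by group
      _ = X⁻¹ * X⁻¹ := by rw [hk2 _ hprod, mul_one]
      _ = 1 := by rw [← mul_inv_rev, hXX, inv_one]
  exact hpne (hZ ▸ this)

end cases

include h in
/-- The centraliser of `tA pM`. -/
theorem exists_loc : ∃ N : Subgroup G,
    Loc (h.tA pM) (h.tA bM) (h.tA qM) (h.tA (nM * qM)) N := by
  classical
  set p := h.tA pM with hpd
  set b := h.tA bM with hbd
  have eqA : ∀ {σ τ : Aff}, (∀ x, σ.1 x = τ.1 x) → h.tA σ = h.tA τ := fun e => congrArg h.tA (aff_eq_iff.mpr e)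
  have neA : ∀ {σ τ : Aff}, ¬ (∀ x, σ.1 x = τ.1 x) → h.tA σ ≠ h.tA τ := fun e he => e (aff_eq_iff.mp (h.injA he))
  have hp2 : p * p = 1 := by rw [hpd, ← map_mul, ← map_one h.tA]; exact eqA (by decide +kernel)
  have hpne : p ≠ 1 := by rw [hpd, ← map_one h.tA]; exact neA (by decide +kernel)
  have hb3' : b ^ 3 = 1 := by rw [hbd, ← map_pow, ← map_one h.tA]; exact eqA (by decide +kernel)
  set H : Subgroup G := centralizer {p}
  have hH : ∀ x, x ∈ H ↔ x * p = p * x := fun x => mem_centralizer_singleton_iff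
  have memA : ∀ {σ : Aff}, σ * pM = pM * σ → h.tA σ ∈ H := fun {σ} e => (hH _).mpr (by rw [hpd, ← map_mul, e, map_mul])
  let pH : H := ⟨p, (hH p).mpr rfl⟩
  let bH : H := ⟨b, memA (aff_eq_iff.mpr (by decide +kernel))⟩
  let qH : H := ⟨h.tA qM, memA (aff_eq_iff.mpr (by decide +kernel))⟩
  let iH : H := ⟨h.tA (nM * qM), memA (aff_eq_iff.mpr (by decide +kernel))⟩
  let yH : H := ⟨h.tA (nM * bM), memA (aff_eq_iff.mpr (by decide +kernel))⟩
  have hpc : ∀ x : H, x * pH = pH * x := fun x => Subtype.ext ((hH _).mp x.2)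
  let P : Subgroup H := zpowers pH
  have hP : ∀ x : H, x ∈ P ↔ x = 1 ∨ x = pH := by
    intro x
    refine ⟨fun hx => ?_, fun hx => ?_⟩
    · obtain ⟨k, rfl⟩ := mem_zpowers_iff.mp hx
      have h2 : pH ^ (2 : ℤ) = 1 := by rw [zpow_two]; exact Subtype.ext hp2
      rcases Int.emod_two_eq_zero_or_one k with e | e
      · left; obtain ⟨j, rfl⟩ : (2 : ℤ) ∣ k := by omega
        rw [zpow_mul, h2, one_zpow]
      · right; obtain ⟨j, rfl⟩ : ∃ j, k = 2 * j + 1 := ⟨k / 2, by omega⟩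
        rw [zpow_add, zpow_mul, h2, one_zpow, one_mul, zpow_one]
    · rcases hx with h1 | h1 <;> rw [h1]
      · exact one_mem _
      · exact mem_zpowers _
  have : P.Normal := ⟨fun x hx g => by
    rcases (hP x).mp hx with h1 | h1 <;> rw [h1]
    · simp [one_mem]
    · rw [hpc g, mul_inv_cancel_right]; exact mem_zpowers _⟩
  set Bq : H ⧸ P := QuotientGroup.mk bH
  have hB3 : Bq ^ 3 = 1 := by
    rw [← QuotientGroup.mk_pow, show bH ^ 3 = 1 from Subtype.ext hb3']; rfl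
  have hBne : Bq ≠ 1 := by
    intro e
    rcases (hP bH).mp ((QuotientGroup.eq_one_iff bH).mp e) with h1 | h1 <;> have h2 := congrArg Subtype.val h1
    · exact neA (σ := bM) (τ := 1) (by decide +kernel) (by rw [map_one]; exact h2)
    · exact neA (σ := bM) (τ := pM) (by decide +kernel) h2
  have hcentB : ∀ x : H ⧸ P, Bq * x = x * Bq → x ∈ zpowers Bq := by
    intro x hx
    induction x using QuotientGroup.induction_on with | H x => ?_
    have hk : ((x * bH)⁻¹ * (bH * x) : H) ∈ P := QuotientGroup.eq.mp (by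
      rw [QuotientGroup.mk_mul, QuotientGroup.mk_mul]; exact hx.symm)
    have hxb : (x : G) * b = b * x := by
      rcases (hP _).mp hk with h1 | h1 <;> have h2 := congrArg Subtype.val h1
      · exact (inv_mul_eq_one.mp h2)
      · exfalso
        have hbx : b * x = x * b * p := by
          rw [← show ((x : G) * b)⁻¹ * (b * x) = p from h2]; group
        have e : (x : G)⁻¹ * b * x = b * p := by
          calc (x : G)⁻¹ * b * x = (x : G)⁻¹ * (b * x) := by group
            _ = _ := by rw [hbx]; group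
        have e3 : (b * p) ^ 3 = 1 := by
          rw [← e]
          calc ((x : G)⁻¹ * b * x) ^ 3 = (x : G)⁻¹ * b ^ 3 * x := by rw [pow_succ, pow_two, pow_succ, pow_two]; group
            _ = 1 := by rw [hb3']; group
        refine neA (σ := (bM * pM) ^ 3) (τ := 1) (by decide +kernel) ?_
        rw [map_pow, map_mul, map_one]
        exact e3
    obtain ⟨i, -, j, -, e⟩ := h.centralizer_bp (x : G) hxb ((hH _).mp x.2)
    have ex : x = bH ^ i * pH ^ j := Subtype.ext (by simpa using e)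
    refine mem_zpowers_iff.mpr ⟨i, ?_⟩
    rw [ex, QuotientGroup.mk_mul, (QuotientGroup.eq_one_iff _).mpr (pow_mem (mem_zpowers pH) j), mul_one,
      zpow_natCast, QuotientGroup.mk_pow]
  have hBo : Nat.card (zpowers Bq) = 3 := by
    have : Fact (Nat.Prime 3) := ⟨Nat.prime_three⟩
    rw [Nat.card_zpowers]
    exact orderOf_eq_prime hB3 hBne
  have hqb : qH * bH * qH⁻¹ = bH⁻¹ := Subtype.ext (by
    simp only [Subgroup.coe_mul, Subgroup.coe_inv, qH, bH, hbd, ← map_inv, ← map_mul]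
    exact eqA (by decide +kernel))
  have hqq : qH * qH = 1 := Subtype.ext (by
    simp only [Subgroup.coe_mul, Subgroup.coe_one, qH, ← map_mul, ← map_one h.tA]
    exact eqA (by decide +kernel))
  have hqb' : (qH : H ⧸ P) * Bq * (qH : H ⧸ P)⁻¹ = Bq⁻¹ := by
    rw [← QuotientGroup.mk_inv, ← QuotientGroup.mk_mul, ← QuotientGroup.mk_mul, hqb]; rfl
  have hii : iH * iH = pH := Subtype.ext (by
    simp only [Subgroup.coe_mul, iH, pH, hpd, ← map_mul]; exact eqA (by decide +kernel))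
  have hi3 : iH * (bH * iH * bH⁻¹) * (bH⁻¹ * iH * bH) ∈ P := by
    have e : h.tA (nM * qM * (bM * (nM * qM) * bM⁻¹) * (bM⁻¹ * (nM * qM) * bM)) = 1 ∨
        h.tA (nM * qM * (bM * (nM * qM) * bM⁻¹) * (bM⁻¹ * (nM * qM) * bM)) = p := by
      rcases (show (∀ x, (nM * qM * (bM * (nM * qM) * bM⁻¹) * (bM⁻¹ * (nM * qM) * bM)).1 x = (1 : Aff).1 x) ∨
          ∀ x, (nM * qM * (bM * (nM * qM) * bM⁻¹) * (bM⁻¹ * (nM * qM) * bM)).1 x = pM.1 x by decide +kernel) with e | e
      · exact Or.inl ((eqA e).trans (map_one _))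
      · exact Or.inr (eqA e)
    refine (hP _).mpr (e.imp (fun e => Subtype.ext ?_) (fun e => Subtype.ext ?_))
    all_goals simpa [iH, bH, pH, hbd] using e
  have hic : (iH * (bH * iH * bH⁻¹))⁻¹ * (bH * iH * bH⁻¹ * iH) ∈ P := by
    have e : h.tA ((nM * qM * (bM * (nM * qM) * bM⁻¹))⁻¹ * (bM * (nM * qM) * bM⁻¹ * (nM * qM))) = p :=
      eqA (by decide +kernel)
    refine (hP _).mpr (Or.inr (Subtype.ext ?_))
    simpa [iH, bH, pH, hbd] using e
  have hqi : qH * iH = iH * qH * pH := Subtype.ext (by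
    simp only [Subgroup.coe_mul, qH, iH, pH, hpd, ← map_mul]; exact eqA (by decide +kernel))
  have hy : yH * yH * yH * yH = pH := Subtype.ext (by
    simp only [Subgroup.coe_mul, yH, pH, hpd, ← map_mul]; exact eqA (by decide +kernel))
  have hqp : qH ≠ pH := fun e => neA (σ := qM) (τ := pM) (by decide +kernel) (congrArg Subtype.val e)
  have hq1 : qH ≠ 1 := fun e => neA (σ := qM) (τ := 1) (by decide +kernel) (by rw [map_one]; exact congrArg Subtype.val e)
  have hcent : centralizer ((zpowers Bq : Subgroup (H ⧸ P)) : Set (H ⧸ P)) = zpowers Bq := by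
    refine le_antisymm (fun x hx => hcentB x (mem_centralizer_iff.mp hx Bq (mem_zpowers _))) ?_
    intro x hx y hy
    obtain ⟨k, rfl⟩ := mem_zpowers_iff.mp hx
    obtain ⟨l, rfl⟩ := mem_zpowers_iff.mp hy
    exact ((Commute.refl Bq).zpow_zpow l k).eq
  rcases S3331.result (zpowers Bq) hBo hcent with ⟨N, hN, -, hcop, hquot⟩ | ⟨N, hN, hNc, hN2, ⟨e⟩⟩ | ⟨⟨e⟩⟩
  · have hfixN : ∀ x ∈ N, Bq * x = x * Bq → x = 1 := by
      intro x hx hc
      have hd := Nat.eq_one_of_dvd_coprimes hcop (Subgroup.orderOf_dvd_natCard N hx)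
        (hBo ▸ Subgroup.orderOf_dvd_natCard _ (hcentB x hc))
      exact orderOf_eq_one_iff.mp hd
    have hBN : Bq ∉ N := fun hh => hBne (hfixN Bq hh rfl)
    set π := QuotientGroup.mk' N
    have hπ : ∀ x, π x = 1 ↔ x ∈ N := fun x => QuotientGroup.eq_one_iff x
    rcases hquot with h3 | ⟨⟨e⟩⟩
    · exfalso
      have : Fact (Nat.Prime 3) := ⟨Nat.prime_three⟩
      have : IsCyclic ((H ⧸ P) ⧸ N) := isCyclic_of_prime_card h3
      have hc := congrArg π hqb'
      rw [map_mul, map_mul, map_inv, map_inv] at hc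
      have hcom : π (qH : H ⧸ P) * π Bq = π Bq * π (qH : H ⧸ P) :=
        (IsCyclic.commGroup (α := (H ⧸ P) ⧸ N)).mul_comm _ _
      rw [hcom, mul_inv_cancel_right] at hc
      have h2 : π Bq * π Bq = 1 := by nth_rewrite 1 [hc]; rw [inv_mul_cancel]
      apply hBN
      rw [← hπ]
      calc π Bq = π (Bq ^ 3) * (π Bq * π Bq)⁻¹ := by rw [pow_succ, pow_two, map_mul, map_mul]; group
        _ = 1 := by rw [hB3, h2, map_one, inv_one, one_mul]
    let φ : H ⧸ P →* Equiv.Perm (Fin 3) := e.toMonoidHom.comp π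
    have hφ : ∀ x, φ x = 1 ↔ x ∈ N := fun x => by
      show e (π x) = 1 ↔ _
      rw [MulEquiv.map_eq_one_iff, hπ]
    have hr3 : φ Bq * φ Bq * φ Bq = 1 := by rw [← map_mul, ← map_mul, ← pow_two, ← pow_succ, hB3, map_one]
    have hrne : φ Bq ≠ 1 := fun hh => hBN ((hφ _).mp hh)
    let N' : Subgroup G := (N.comap (QuotientGroup.mk' P)).map H.subtype
    have memN' : ∀ x : G, x ∈ N' ↔ ∃ hx : x ∈ H, ((⟨x, hx⟩ : H) : H ⧸ P) ∈ N := by
      intro x
      constructor
      · rintro ⟨y, hy, rfl⟩; exact ⟨y.2, hy⟩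
      · rintro ⟨hx, hy⟩; exact ⟨⟨x, hx⟩, hy, rfl⟩
    refine ⟨N', ⟨fun y hy => (hH y).mp ((memN' y).mp hy).1, ?_, ?_, ?_, ?_⟩⟩
    · intro y hy
      obtain ⟨hyH, hyN⟩ := (memN' y).mp hy
      set yy : H := ⟨y, hyH⟩
      have h1 : ((pr yy bH : H) : H ⧸ P) = 1 :=
        (pr_map (QuotientGroup.mk' P) yy bH).trans (fpf_prod N hB3 hfixN hyN)
      exact ((hP _).mp ((QuotientGroup.eq_one_iff _).mp h1)).imp
        (fun e => (pr_map H.subtype yy bH).symm.trans (congrArg Subtype.val e))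
        (fun e => (pr_map H.subtype yy bH).symm.trans (congrArg Subtype.val e))
    · intro x hxp hxr
      set xx : H := ⟨x, (hH x).mpr hxp⟩
      have hc : φ (xx : H ⧸ P) * φ (qH : H ⧸ P) = φ (qH : H ⧸ P) * φ (xx : H ⧸ P) := by
        rw [← map_mul, ← map_mul, ← QuotientGroup.mk_mul, ← QuotientGroup.mk_mul,
          show xx * qH = qH * xx from Subtype.ext hxr]
      rcases sym_three_split (φ Bq) hr3 hrne (φ (qH : H ⧸ P)) (by simpa using congrArg φ hqb') _ hc with h1 | h1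
      · exact Or.inl ((memN' x).mpr ⟨xx.2, (hφ _).mp h1⟩)
      · refine Or.inr ((memN' _).mpr ⟨(xx * qH).2, ?_⟩)
        rw [← map_mul] at h1
        exact (hφ _).mp h1
    · refine (memN' _).mpr ⟨iH.2, (hφ _).mp ?_⟩
      show φ (iH : H ⧸ P) = 1
      refine sym_three_four (φ Bq) hr3 hrne _ ?_ ?_
      · rw [← map_mul, ← QuotientGroup.mk_mul, hii, (QuotientGroup.eq_one_iff _).mpr (mem_zpowers pH), map_one]
      · have := congrArg φ ((QuotientGroup.eq_one_iff _).mpr hic)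
        simp only [QuotientGroup.mk_mul, QuotientGroup.mk_inv, map_mul, map_inv, map_one] at this
        exact inv_mul_eq_one.mp (by simpa [Bq, mul_assoc] using this)
    · intro x hx y hy
      obtain ⟨hxH, hxN⟩ := (memN' x).mp hx
      obtain ⟨hyH, hyN⟩ := (memN' y).mp hy
      set xx : H := ⟨x, hxH⟩
      set yy : H := ⟨y, hyH⟩
      have h1 : ((yy * xx * yy⁻¹ * xx)⁻¹ * (xx * (yy * xx * yy⁻¹)) : H) ∈ P := QuotientGroup.eq.mp (by
        simp only [QuotientGroup.mk_mul, QuotientGroup.mk_inv]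
        exact (fpf_conj_commute N hB3 hfixN hxN hyN).symm)
      rcases (hP _).mp h1 with h2 | h2 <;> have h3 := congrArg Subtype.val h2
      · exact Or.inl (inv_mul_eq_one.mp (show (y * x * y⁻¹ * x)⁻¹ * (x * (y * x * y⁻¹)) = 1 from h3)).symm
      · refine Or.inr ?_
        rw [show p = (y * x * y⁻¹ * x)⁻¹ * (x * (y * x * y⁻¹)) from h3.symm]; group
  · exact (not_alt_five (p := pH) (b := bH) (q := qH) (i := iH) P hP (fun e => hpne (congrArg Subtype.val e))
      (Subtype.ext hp2) hpc (Subtype.ext hb3') hcentB hBne hqb hqq hii hi3 hic hqi N hNc hN2 e).elim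
  · exact (not_psl_seven (p := pH) (q := qH) (y := yH) P hP (fun e => hpne (congrArg Subtype.val e))
      (Subtype.ext hp2) hpc hqq hqp hq1 hy e).elim

end Cfsg.Agent.GLThreeAmalgam
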