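/-
The relations in a GL(2,3)-amalgam with the given local hypothesis.

Main result: `Amal.relations`.
-/
import Cfsg.Agent.Lib.GLThreeAmalgam.Local
import Cfsg.Agent.Lib.GLThreeAmalgam.Derivs

set_option autoImplicit false

namespace Cfsg.Agent.GLThreeAmalgam

/-- The inverse of a word. -/
def invW (w : List ℕ) : List ℕ := w.reverse.map fun a => invL.getD a 0

/-- The orbit product word. -/
def prWord (y e : List ℕ) : List ℕ := y ++ e ++ y ++ invW e ++ invW e ++ y ++ e

/-- The square of the product of two conjugate involutions. -/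
def cmWord (y e : List ℕ) : List ℕ := y ++ e ++ y ++ invW e ++ y ++ e ++ y ++ invW e

/-- The word `(n m)³`. -/
def wd : List ℕ := [8, 9, 8, 9, 8, 9]

/-- The word `(n m)⁶`. -/
def wx : List ℕ := wd ++ wd

/-- The relators of the case of `PSL(3,3)`. -/
def ext13 : List (List ℕ) := [wd]

/-- The relators of the case of `M12`. -/
def ext220 : List (List ℕ) := [prWord wd [2] ++ [6], wx, prWord (wd ++ [6]) [0, 4] ++ [8]]

/-- The seven generators. -/
def Amal.v {G : Type*} [Group G] (h : Amal G) : Fin 7 → G :=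
  ![h.tA aM, h.tA bM, h.tA cM, h.tA pM, h.tA qM, h.tA nM, h.tB nM]

/-- The element conjugating `qM` to `nM`. -/
def gM : Aff := ⟨⟨![0, 7, 5, 4, 2, 6, 8, 3, 1], ![0, 8, 4, 7, 3, 2, 5, 1, 6], by decide, by decide⟩,
  mem_aff.mpr (by unfold IsAff; decide +kernel)⟩

theorem sixM_rels : (rmWords.all fun w => w.all (fun a => decide (a < 9)) &&
    decide (∀ x, (prodW sixM w).1 x = x)) = true := by
  decide +kernel

theorem pr_rev {G : Type*} [Group G] {y e s : G} (hy : y * y = 1) (hs : s * s = 1)
    (hys : y * s = s * y) (hes : e * s = s * e) (hp : pr y e = s) :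
    pr y e⁻¹ = s ∧ y * e * y * e⁻¹ * y * e * y * e⁻¹ = 1 := by
  unfold pr at *
  rw [inv_inv]
  set Y := e * y * e⁻¹ with hY
  set Z := e⁻¹ * y * e with hZ
  have hYY : Y * Y = 1 := by
    rw [hY]
    calc e * y * e⁻¹ * (e * y * e⁻¹) = e * (y * y) * e⁻¹ := by group
      _ = 1 := by rw [hy]; group
  have hZZ : Z * Z = 1 := by
    rw [hZ]
    calc e⁻¹ * y * e * (e⁻¹ * y * e) = e⁻¹ * (y * y) * e := by group
      _ = 1 := by rw [hy]; group
  have hYs : Commute Y s := by
    have ce : Commute e s := hes
    have cy : Commute y s := hys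
    exact (ce.mul_left cy).mul_left ce.inv_left
  have cy : Commute y s := hys
  have hZe : Z = Y * y * s := by
    calc Z = Y * (y * y) * Y * Z := by rw [hy, mul_one, hYY, one_mul]
      _ = Y * y * (y * Y * Z) := by group
      _ = _ := by rw [hp]
  have hsq : Y * y * (Y * y) = 1 := by
    calc Y * y * (Y * y) = Y * y * (Y * y) * (s * s) := by rw [hs, mul_one]
      _ = Y * y * ((Y * y) * s) * s := by group
      _ = Y * y * (s * (Y * y)) * s := by rw [((hYs.mul_left cy).eq)]
      _ = Z * Z := by rw [hZe]; group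
      _ = 1 := hZZ
  have hsq' : y * Y * (y * Y) = 1 := by
    calc y * Y * (y * Y) = y * (Y * y * (Y * y)) * y⁻¹ := by group
      _ = 1 := by rw [hsq]; group
  refine ⟨?_, ?_⟩
  · calc y * Z * Y = y * (Y * y * s) * Y := by rw [hZe]
      _ = y * Y * y * (s * Y) := by group
      _ = y * Y * (y * Y) * s := by rw [← hYs.eq]; group
      _ = s := by rw [hsq', one_mul]
  · rw [← hsq', hY]; group

section
variable {G : Type*} [Group G] (h : Amal G)

theorem Amal.val_phi : ∀ a < 9, val h.v (phiL a) = h.tB (val sixM a) := by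
  intro a ha
  have := h.ab; have := h.ba; have := h.cc; have := h.pq; have := h.qp
  interval_cases a <;> simp_all [val, phiL, Amal.v, sixM]

theorem Amal.val_six : ∀ a < 9, val h.v a = h.tA (val sixM a) := by
  intro a ha
  interval_cases a <;> simp [val, Amal.v, sixM]

theorem prodW_map {H : Type*} [Group H] (v : Fin 7 → H) (f : Aff →* H) (π : ℕ → ℕ)
    (hv : ∀ a < 9, val v (π a) = f (val sixM a)) :
    ∀ w : List ℕ, (∀ a ∈ w, a < 9) → prodW v (w.map π) = f (prodW sixM w)
  | [], _ => by simp
  | a :: w, hw => by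
    rw [List.map_cons, prodW_cons, prodW_cons, hv a (hw a List.mem_cons_self),
      prodW_map v f π hv w (fun b hb => hw b (List.mem_cons_of_mem a hb)), map_mul]

theorem Amal.tA_sq {σ : Aff} (e : σ * σ = 1) : h.tA σ * h.tA σ = 1 := by rw [← map_mul, e, map_one]

theorem Amal.holds_base : Holds h.v baseRels := by
  intro w hw
  have hall := List.all_eq_true.mp sixM_rels
  have h1 : ∀ w ∈ rmWords, (∀ a ∈ w, a < 9) ∧ prodW sixM w = 1 := fun w hw => by
    have := hall w hw
    simp only [Bool.and_eq_true, List.all_eq_true, decide_eq_true_eq] at this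
    exact ⟨this.1, aff_eq_iff.mpr this.2⟩
  simp only [baseRels, List.mem_append, List.mem_map, List.mem_range, List.mem_singleton] at hw
  rcases hw with ((hw | ⟨w', hw', rfl⟩) | ⟨a, ha, rfl⟩) | rfl
  · have := prodW_map h.v h.tA id (fun a ha => h.val_six a ha) w (h1 w hw).1
    rw [List.map_id] at this
    rw [this, (h1 w hw).2, map_one]
  · rw [prodW_map h.v h.tB phiL h.val_phi w' (h1 w' hw').1, (h1 w' hw').2, map_one]
  · have e1 : h.tB nM * h.tB nM = 1 := by
      rw [← map_mul, show nM * nM = 1 from aff_eq_iff.mpr (by decide +kernel), map_one]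
    interval_cases a <;> simp [val, Amal.v, invL, e1,
      h.tA_sq (σ := pM) (aff_eq_iff.mpr (by decide +kernel)),
      h.tA_sq (σ := qM) (aff_eq_iff.mpr (by decide +kernel)),
      h.tA_sq (σ := nM) (aff_eq_iff.mpr (by decide +kernel))]
  · rfl

theorem Amal.sideA_le : sideA h.v ≤ h.tA.range := by
  rw [sideA, Subgroup.closure_le]
  rintro _ ⟨a, ha, rfl⟩
  exact ⟨val sixM a, (h.val_six a ha).symm⟩

theorem Amal.m_not_mem : h.tB nM ∉ sideA h.v := by
  intro hm
  refine h.notBA ?_
  rw [MonoidHom.range_eq_map, ← closure_six, MonoidHom.map_closure, Subgroup.closure_le]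
  rintro _ ⟨_, ⟨i, rfl⟩, rfl⟩
  fin_cases i <;> simp only [sixM]
  exacts [⟨bM, h.ab.symm⟩, ⟨aM, h.ba.symm⟩, ⟨cM⁻¹, by simp [h.cc]⟩, ⟨qM, h.pq.symm⟩, ⟨pM, h.qp.symm⟩,
    h.sideA_le hm, ⟨1, by simp⟩]

end

section
variable {G : Type*} [Group G] {v : Fin 7 → G}

theorem prodW_pr {e : G} (y w : List ℕ) (hw : prodW v w = e) (hi : prodW v (invW w) = e⁻¹) :
    prodW v (prWord y w) = pr (prodW v y) e := by
  simp only [prWord, prodW_append, hw, hi, pr]
  group

theorem prodW_cm {e : G} (y w : List ℕ) (hw : prodW v w = e) (hi : prodW v (invW w) = e⁻¹) :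
    prodW v (cmWord y w) =
      prodW v y * e * prodW v y * e⁻¹ * prodW v y * e * prodW v y * e⁻¹ := by
  simp only [cmWord, prodW_append, hw, hi, mul_assoc]

theorem holds_cons {w : List ℕ} {l : List (List ℕ)} (h1 : prodW v w = 1) (h2 : Holds v l) :
    Holds v (w :: l) := fun u hu => by
  rcases List.mem_cons.mp hu with rfl | hu
  · exact h1
  · exact h2 u hu

theorem holds_nil : Holds v [] := fun u hu => by simp at hu

/-- A sign word: the empty word or one letter. -/
def IsSign (v : Fin 7 → G) (k : ℕ) (s : List ℕ) (g : G) : Prop :=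
  (s = [] ∧ g = 1) ∨ (s = [k] ∧ g = val v k)

theorem exists_sign {k : ℕ} {g : G} (hg : g = 1 ∨ g = val v k) : ∃ s, IsSign v k s g :=
  hg.elim (fun e => ⟨[], Or.inl ⟨rfl, e⟩⟩) (fun e => ⟨[k], Or.inr ⟨rfl, e⟩⟩)

theorem IsSign.prod {k : ℕ} {s : List ℕ} {g : G} (h : IsSign v k s g) : prodW v s = g := by
  rcases h with ⟨rfl, rfl⟩ | ⟨rfl, rfl⟩ <;> simp

theorem IsSign.rel {k : ℕ} {s : List ℕ} {g : G} (h : IsSign v k s g) (hk : val v k * val v k = 1) :
    g * prodW v s = 1 := by
  rcases h with ⟨rfl, rfl⟩ | ⟨rfl, rfl⟩ <;> simp [hk]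

theorem IsSign.cases {k : ℕ} {s : List ℕ} {g : G} (h : IsSign v k s g) : s = [] ∨ s = [k] :=
  h.imp And.left And.left

theorem deriv_apply (D : CosetEnum.Deriv) (hc : D.check = true) (hk : D.k = 10) (hi : D.inv = invL)
    {ext : List (List ℕ)} (hr : D.rels = baseRels ++ ext) (hs : D.subs = subWords)
    (hb : Holds v baseRels) {known : List (List ℕ)} (hkn : Holds v known)
    (hl : (ext.all fun w => known.contains w) = true) {t : List ℕ} (ht : D.tgt = t) :
    prodW v t ∈ sideA v :=
  ht ▸ mem_of_deriv D hc hk hi hr hs hb (holds_of_all hkn hl)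

theorem case_X (hb : Holds v baseRels) {s : List ℕ} (hs : s = [] ∨ s = [6])
    (hk : Holds v [prWord (wd ++ [7]) [2] ++ s]) : prodW v [9] ∈ sideA v := by
  rcases hs with rfl | rfl
  · exact deriv_apply derX0 derX0_check rfl rfl rfl rfl hb hk (by decide +kernel) rfl
  · exact deriv_apply derX1 derX1_check rfl rfl rfl rfl hb hk (by decide +kernel) rfl

/-- The relators known in the first step. -/
def knownA (s0 sb y sn : List ℕ) : List (List ℕ) :=
  [prWord wd [2] ++ s0, wx ++ wx, prWord wx [2] ++ sb, prWord wx [3] ++ sb, cmWord wx [2], cmWord wx [3],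
    prWord y [0, 4] ++ sn, prWord y [5, 1] ++ sn, cmWord y [0, 4], cmWord y [5, 1]]

theorem case_A (hb : Holds v baseRels) {s0 sb ts sn : List ℕ} (h0 : s0 = [] ∨ s0 = [6])
    (h1 : sb = [] ∨ sb = [6]) (h2 : ts = [] ∨ ts = [6]) (h3 : sn = [] ∨ sn = [8])
    (hk : Holds v (knownA s0 sb (wx ++ ts) sn)) : prodW v wx ∈ sideA v := by
  rcases h0 with rfl | rfl <;> rcases h1 with rfl | rfl <;> rcases h2 with rfl | rfl <;>
    rcases h3 with rfl | rfl
  · exact deriv_apply derA0000 derA0000_check rfl rfl rfl rfl hb hk (by decide +kernel) rfl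
  · exact deriv_apply derA0001 derA0001_check rfl rfl rfl rfl hb hk (by decide +kernel) rfl
  · exact deriv_apply derA0010 derA0010_check rfl rfl rfl rfl hb hk (by decide +kernel) rfl
  · exact deriv_apply derA0011 derA0011_check rfl rfl rfl rfl hb hk (by decide +kernel) rfl
  · exact deriv_apply derA0100 derA0100_check rfl rfl rfl rfl hb hk (by decide +kernel) rfl
  · exact deriv_apply derA0101 derA0101_check rfl rfl rfl rfl hb hk (by decide +kernel) rfl
  · exact deriv_apply derA0110 derA0110_check rfl rfl rfl rfl hb hk (by decide +kernel) rfl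
  · exact deriv_apply derA0111 derA0111_check rfl rfl rfl rfl hb hk (by decide +kernel) rfl
  · exact deriv_apply derA1000 derA1000_check rfl rfl rfl rfl hb hk (by decide +kernel) rfl
  · exact deriv_apply derA1001 derA1001_check rfl rfl rfl rfl hb hk (by decide +kernel) rfl
  · exact deriv_apply derA1010 derA1010_check rfl rfl rfl rfl hb hk (by decide +kernel) rfl
  · exact deriv_apply derA1011 derA1011_check rfl rfl rfl rfl hb hk (by decide +kernel) rfl
  · exact deriv_apply derA1100 derA1100_check rfl rfl rfl rfl hb hk (by decide +kernel) rfl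
  · exact deriv_apply derA1101 derA1101_check rfl rfl rfl rfl hb hk (by decide +kernel) rfl
  · exact deriv_apply derA1110 derA1110_check rfl rfl rfl rfl hb hk (by decide +kernel) rfl
  · exact deriv_apply derA1111 derA1111_check rfl rfl rfl rfl hb hk (by decide +kernel) rfl

/-- The relators known in the second step. -/
def knownB (s0 y sn : List ℕ) : List (List ℕ) :=
  [prWord wd [2] ++ s0, wx, prWord y [0, 4] ++ sn, prWord y [5, 1] ++ sn]

theorem case_B0 (hb : Holds v baseRels) {ts sn : List ℕ}
    (h2 : ts = [] ∨ ts = [6]) (h3 : sn = [] ∨ sn = [8]) (hk : Holds v (knownB [] (wd ++ ts) sn)) :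
    prodW v wd ∈ sideA v := by
  rcases h2 with rfl | rfl <;> rcases h3 with rfl | rfl
  · exact deriv_apply derB000 derB000_check rfl rfl rfl rfl hb hk (by decide +kernel) rfl
  · exact deriv_apply derB001 derB001_check rfl rfl rfl rfl hb hk (by decide +kernel) rfl
  · exact deriv_apply derB010 derB010_check rfl rfl rfl rfl hb hk (by decide +kernel) rfl
  · exact deriv_apply derB011 derB011_check rfl rfl rfl rfl hb hk (by decide +kernel) rfl

theorem case_B1 (hb : Holds v baseRels) {ts sn : List ℕ}
    (h2 : ts = [] ∨ ts = [6]) (h3 : sn = [] ∨ sn = [8]) (hk : Holds v (knownB [6] (wd ++ ts) sn)) :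
    prodW v [9] ∈ sideA v ∨ Holds v ext220 := by
  rcases h2 with rfl | rfl <;> rcases h3 with rfl | rfl
  · exact Or.inl (deriv_apply derB100 derB100_check rfl rfl rfl rfl hb hk (by decide +kernel) rfl)
  · exact Or.inl (deriv_apply derB101 derB101_check rfl rfl rfl rfl hb hk (by decide +kernel) rfl)
  · exact Or.inl (deriv_apply derB110 derB110_check rfl rfl rfl rfl hb hk (by decide +kernel) rfl)
  · exact Or.inr (holds_of_all hk (by decide +kernel))

end

/-- The relations. -/
theorem Amal.relations {G : Type*} [Group G] [Finite G] (h : Amal G) :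
    Holds h.v baseRels ∧ (Holds h.v ext13 ∨ Holds h.v ext220) := by
  classical
  have hb := h.holds_base
  refine ⟨hb, ?_⟩
  obtain ⟨N, hN⟩ := exists_loc h
  obtain ⟨N2, hN2⟩ := exists_loc h.swap
  have eqA : ∀ {σ τ : Aff}, (∀ x, σ.1 x = τ.1 x) → h.tA σ = h.tA τ := fun e => congrArg h.tA (aff_eq_iff.mpr e)
  have neA : ∀ {σ τ : Aff}, ¬ (∀ x, σ.1 x = τ.1 x) → h.tA σ ≠ h.tA τ := fun e he => e (aff_eq_iff.mp (h.injA he))
  set p := h.tA pM with hpd
  set q := h.tA qM with hqd
  set n := h.tA nM with hnd
  set m := h.tB nM with hmd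
  have hpp : p * p = 1 := by rw [hpd, ← map_mul, ← map_one h.tA]; exact eqA (by decide +kernel)
  have hqq : q * q = 1 := by rw [hqd, ← map_mul, ← map_one h.tA]; exact eqA (by decide +kernel)
  have hnn : n * n = 1 := by rw [hnd, ← map_mul, ← map_one h.tA]; exact eqA (by decide +kernel)
  have hmm : m * m = 1 := by
    rw [hmd, ← map_mul, show nM * nM = 1 from aff_eq_iff.mpr (by decide +kernel), map_one]
  have hpq : p * q = q * p := by rw [hpd, hqd, ← map_mul, ← map_mul]; exact eqA (by decide +kernel)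
  have hnp : n * p = p * n := by rw [hnd, hpd, ← map_mul, ← map_mul]; exact eqA (by decide +kernel)
  have hnq : n * q = p * q * n := by
    rw [hnd, hpd, hqd, ← map_mul, ← map_mul, ← map_mul]; exact eqA (by decide +kernel)
  have hmq : m * q = q * m := by
    rw [hmd, hqd, ← h.pq, ← map_mul, ← map_mul]; exact congrArg h.tB (aff_eq_iff.mpr (by decide +kernel))
  have hmp : m * p = p * q * m := by
    rw [hmd, hpd, hqd, ← h.qp, ← h.pq, ← map_mul, ← map_mul, ← map_mul]
    exact congrArg h.tB (aff_eq_iff.mpr (by decide +kernel))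
  have hqne : q ≠ 1 := by rw [hqd, ← map_one h.tA]; exact neA (by decide +kernel)
  have hpnq : p ≠ q := neA (by decide +kernel)
  set w := n * m with hw
  have w1 : w * p = q * w := by
    calc w * p = n * (m * p) := mul_assoc _ _ _
      _ = n * p * q * m := by rw [hmp]; group
      _ = p * (n * q) * m := by rw [hnp]; group
      _ = (p * p) * q * (n * m) := by rw [hnq]; group
      _ = _ := by rw [hpp, one_mul]
  have w2 : w * q = p * q * w := by
    calc w * q = n * (m * q) := mul_assoc _ _ _
      _ = n * q * m := by rw [hmq]; group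
      _ = _ := by rw [hnq, hw]; group
  have w3 : w * (p * q) = p * w := by
    calc w * (p * q) = w * p * q := (mul_assoc _ _ _).symm
      _ = q * (w * q) := by rw [w1]; group
      _ = (q * p) * q * w := by rw [w2]; group
      _ = p * (q * q) * w := by rw [← hpq]; group
      _ = _ := by rw [hqq, mul_one]
  set d := w * w * w with hd
  have hdp : d * p = p * d := by
    calc d * p = w * w * (w * p) := by rw [hd]; group
      _ = w * (w * q) * w := by rw [w1]; group
      _ = w * (p * q) * w * w := by rw [w2]; group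
      _ = _ := by rw [w3, hd]; group
  have hdq : d * q = q * d := by
    calc d * q = w * w * (w * q) := by rw [hd]; group
      _ = w * (w * (p * q)) * w := by rw [w2]; group
      _ = w * p * w * w := by rw [w3]; group
      _ = _ := by rw [w1, hd]; group
  have hni : n⁻¹ = n := inv_eq_of_mul_eq_one_left hnn
  have hmi : m⁻¹ = m := inv_eq_of_mul_eq_one_left hmm
  have hndn : n * d * n = d⁻¹ := by
    calc n * d * n = (n * n) * m * n * m * n * m * n := by rw [hd, hw]; group
      _ = m * n * m * n * m * n := by rw [hnn, one_mul]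
      _ = _ := by
        rw [hd, hw]; simp only [mul_inv_rev, hni, hmi, mul_assoc]
  have hmdm : m * d * m = d⁻¹ := by
    calc m * d * m = m * n * m * n * m * n * (m * m) := by rw [hd, hw]; group
      _ = m * n * m * n * m * n := by rw [hmm, mul_one]
      _ = _ := by
        rw [hd, hw]; simp only [mul_inv_rev, hni, hmi, mul_assoc]
  have pwd : prodW h.v wd = d := by
    simp [wd, val, Amal.v, hd, hw, hnd, hmd, mul_assoc]
  have v6 : val h.v 6 = p := rfl
  have v7 : val h.v 7 = q := rfl
  have v8 : val h.v 8 = n := rfl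
  have v9 : prodW h.v [9] = m := by simp [val, Amal.v, hmd]
  have k2 : prodW h.v [2] = h.tA bM ∧ prodW h.v (invW [2]) = (h.tA bM)⁻¹ := by
    constructor <;> simp [invW, invL, val, Amal.v]
  have k3 : prodW h.v [3] = (h.tA bM)⁻¹ ∧ prodW h.v (invW [3]) = (h.tA bM)⁻¹⁻¹ := by
    constructor <;> simp [invW, invL, val, Amal.v]
  have k04 : prodW h.v [0, 4] = h.tA (aM * cM) ∧ prodW h.v (invW [0, 4]) = (h.tA (aM * cM))⁻¹ := by
    constructor <;> simp [invW, invL, val, Amal.v]
  have k51 : prodW h.v [5, 1] = (h.tA (aM * cM))⁻¹ ∧ prodW h.v (invW [5, 1]) = (h.tA (aM * cM))⁻¹⁻¹ := by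
    constructor <;> simp [invW, invL, val, Amal.v]
  -- `d` lies in `N`
  have hdN : d ∈ N := by
    rcases hN.split d hdp hdq with hh | hh
    · exact hh
    exfalso
    obtain ⟨s, hs⟩ := exists_sign (v := h.v) (k := 6) (hN.prod _ hh)
    have hmem : prodW h.v [9] ∈ sideA h.v := by
      refine case_X hb hs.cases (holds_cons ?_ holds_nil)
      rw [prodW_append, prodW_pr _ _ k2.1 k2.2, prodW_append, pwd, prodW_cons, v7, prodW_nil, mul_one]
      exact hs.rel (by rw [v6, hpp])
    rw [v9] at hmem
    exact h.m_not_mem hmem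
  -- the square of `d` has order two
  have hi : h.tA (nM * qM) = n * q := map_mul _ _ _
  have hd4 : d * d * (d * d) = 1 := by
    have hiid : (n * q) * d * (n * q)⁻¹ = d⁻¹ := by
      calc (n * q) * d * (n * q)⁻¹ = n * (q * d) * q⁻¹ * n⁻¹ := by group
        _ = n * d * n⁻¹ := by rw [← hdq]; group
        _ = _ := by rw [hni, hndn]
    have hiiq : (n * q) * (n * q) = p := by
      rw [hnd, hqd, hpd, ← map_mul, ← map_mul]; exact eqA (by decide +kernel)
    have lhs : n * q * (d * (n * q) * d⁻¹) = d⁻¹ * d⁻¹ * p := by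
      calc n * q * (d * (n * q) * d⁻¹) = (n * q * d * (n * q)⁻¹) * ((n * q) * (n * q)) * d⁻¹ := by group
        _ = d⁻¹ * (p * d⁻¹) := by rw [hiid, hiiq]; group
        _ = d⁻¹ * (d⁻¹ * p) := by rw [(Commute.inv_left (show Commute d p from hdp)).eq]
        _ = _ := by group
    have rhs : d * (n * q) * d⁻¹ * (n * q) = d * d * p := by
      calc d * (n * q) * d⁻¹ * (n * q) = d * (n * q * d * (n * q)⁻¹)⁻¹ * ((n * q) * (n * q)) := by group
        _ = _ := by rw [hiid, hiiq, inv_inv]
    have hx : d * d * (d * d) = 1 ∨ d * d * (d * d) = p := by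
      have hc := hN.conjcomm _ hN.imem d hdN
      rw [hi, lhs, rhs] at hc
      rcases hc with e | e
      · left
        have e' := mul_right_cancel e
        calc d * d * (d * d) = d⁻¹ * d⁻¹ * (d * d) := by rw [← e']
          _ = 1 := by group
      · right
        rw [mul_assoc (d * d) p p, hpp, mul_one] at e
        calc d * d * (d * d) = d⁻¹ * d⁻¹ * p * (d * d) := by rw [← e]
          _ = d⁻¹ * d⁻¹ * (p * (d * d)) := by group
          _ = d⁻¹ * d⁻¹ * (d * d * p) := by
            rw [((show Commute d p from hdp).mul_left (show Commute d p from hdp)).eq]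
          _ = p := by group
    refine hx.resolve_right fun e => hpnq ?_
    have : w * (d * d * (d * d)) = d * d * (d * d) * w := by rw [hd]; group
    rw [e, w1] at this
    exact (mul_right_cancel this).symm
  set x := d * d with hxd
  have hxinv : x⁻¹ = x := inv_eq_of_mul_eq_one_left hd4
  have pwx : prodW h.v wx = x := by rw [wx, prodW_append, pwd]
  have hxp : Commute x p := (show Commute d p from hdp).mul_left (show Commute d p from hdp)
  have hxq : Commute x q := (show Commute d q from hdq).mul_left (show Commute d q from hdq)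
  have hxn : x * n = n * x := by
    have : n * x * n = x := by
      calc n * x * n = n * d * (1 : G) * d * n := by rw [hxd]; group
        _ = (n * d * n) * (n * d * n) := by rw [← hnn]; group
        _ = x := by rw [hndn, ← mul_inv_rev, ← hxd, hxinv]
    calc x * n = n * x * n * n := by rw [this]
      _ = n * x := by rw [mul_assoc, hnn, mul_one]
  have hxm : x * m = m * x := by
    have : m * x * m = x := by
      calc m * x * m = m * d * (1 : G) * d * m := by rw [hxd]; group
        _ = (m * d * m) * (m * d * m) := by rw [← hmm]; group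
        _ = x := by rw [hmdm, ← mul_inv_rev, ← hxd, hxinv]
    calc x * m = m * x * m * m := by rw [this]
      _ = m * x := by rw [mul_assoc, hmm, mul_one]
  -- the centraliser of `n`
  have hlocn : ∀ y, y * n = n * y → y * p = p * y → ∃ t, (t = 1 ∨ t = p) ∧
      (pr (y * t) (h.tA (aM * cM)) = 1 ∨ pr (y * t) (h.tA (aM * cM)) = n) := by
    intro y hyn hyp
    set g := h.tA gM with hg
    have hgq : g * q * g⁻¹ = n := by
      rw [hg, hqd, hnd, ← map_inv, ← map_mul, ← map_mul]; exact eqA (by decide +kernel)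
    have hgp : g * p * g⁻¹ = p := by
      rw [hg, hpd, ← map_inv, ← map_mul, ← map_mul]; exact eqA (by decide +kernel)
    have hga : g * h.tA aM * g⁻¹ = h.tA (aM * cM) := by
      rw [hg, ← map_inv, ← map_mul, ← map_mul]; exact eqA (by decide +kernel)
    have conj_pr : ∀ z, pr (g * z * g⁻¹) (g * h.tA aM * g⁻¹) = g * pr z (h.tA aM) * g⁻¹ := fun z => by
      simpa using (pr_map (MulAut.conj g).toMonoidHom z (h.tA aM)).symm
    have hzq : h.swap.tA pM = q := h.pq
    have hza : h.swap.tA bM = h.tA aM := h.ba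
    have hzp : h.swap.tA qM = p := h.qp
    have hy1 : g⁻¹ * y * g * q = q * (g⁻¹ * y * g) := by
      calc g⁻¹ * y * g * q = g⁻¹ * (y * (g * q * g⁻¹)) * g := by group
        _ = g⁻¹ * ((g * q * g⁻¹) * y) * g := by rw [hgq, hyn]
        _ = _ := by group
    have hy2 : g⁻¹ * y * g * p = p * (g⁻¹ * y * g) := by
      calc g⁻¹ * y * g * p = g⁻¹ * (y * (g * p * g⁻¹)) * g := by group
        _ = g⁻¹ * ((g * p * g⁻¹) * y) * g := by rw [hgp, hyp]
        _ = _ := by group
    have key : ∀ t, g * t * g⁻¹ = t → g⁻¹ * y * g * t ∈ N2 →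
        pr (y * t) (h.tA (aM * cM)) = 1 ∨ pr (y * t) (h.tA (aM * cM)) = n := by
      intro t ht hmem
      have he : y * t = g * (g⁻¹ * y * g * t) * g⁻¹ := by
        calc y * t = y * (g * t * g⁻¹) := by rw [ht]
          _ = _ := by group
      rw [← hga, he, conj_pr]
      have := hN2.prod _ hmem
      rw [hza, hzq] at this
      rcases this with e | e <;> rw [e]
      · left; group
      · exact Or.inr hgq
    rcases hN2.split (g⁻¹ * y * g) (by rw [hzq]; exact hy1) (by rw [hzp]; exact hy2) with hh | hh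
    · exact ⟨1, Or.inl rfl, key 1 (by group) (by rwa [mul_one])⟩
    · rw [hzp] at hh
      exact ⟨p, Or.inr rfl, key p hgp hh⟩
  have side_fix : ∀ z, z ∈ sideA h.v → z * p = p * z → z * q = q * z → z * n = n * z → z * m = m * z → z = 1 := by
    intro z hz zp zq zn zm
    obtain ⟨σ, rfl⟩ := h.sideA_le hz
    rcases centralizer_pqn σ (h.injA (by simp only [map_mul]; exact zp)) (h.injA (by simp only [map_mul]; exact zq))
      (h.injA (by simp only [map_mul]; exact zn)) with rfl | rfl
    · exact map_one _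
    · exfalso
      rw [← hpd, hmp] at zm
      exact hqne (mul_left_cancel ((mul_right_cancel zm).symm.trans (mul_one p).symm))
  obtain ⟨s0, hs0⟩ := exists_sign (v := h.v) (k := 6) (hN.prod _ hdN)
  have base : prodW h.v (prWord wd [2] ++ s0) = 1 := by
    rw [prodW_append, prodW_pr _ _ k2.1 k2.2, pwd]; exact hs0.rel (by rw [v6, hpp])
  obtain ⟨sb, hsb⟩ := exists_sign (v := h.v) (k := 6) (hN.prod _ (mul_mem hdN hdN : x ∈ N))
  obtain ⟨t, ht, htn⟩ := hlocn x hxn hxp.eq
  obtain ⟨ts, hts⟩ := exists_sign (v := h.v) (k := 6) ht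
  obtain ⟨sn, hsn⟩ := exists_sign (v := h.v) (k := 8) htn
  set e4 := h.tA (aM * cM) with he4
  have hbp : Commute (h.tA bM) p := by
    show h.tA bM * p = p * h.tA bM
    rw [hpd, ← map_mul, ← map_mul]; exact eqA (by decide +kernel)
  have he4n : Commute e4 n := by
    show e4 * n = n * e4
    rw [he4, hnd, ← map_mul, ← map_mul]; exact eqA (by decide +kernel)
  have hcB := pr_rev (y := x) (e := h.tA bM) hd4
    (show pr x (h.tA bM) * pr x (h.tA bM) = 1 by rcases hN.prod _ (mul_mem hdN hdN : x ∈ N) with e | e <;> rw [e] <;> simp [hpp])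
    (by rcases hN.prod _ (mul_mem hdN hdN : x ∈ N) with e | e <;> rw [e] <;> simp [hxp.eq])
    (by rcases hN.prod _ (mul_mem hdN hdN : x ∈ N) with e | e <;> rw [e] <;> simp [hbp.eq]) rfl
  have hcB' := pr_rev (y := x) (e := (h.tA bM)⁻¹) hd4
    (show pr x (h.tA bM) * pr x (h.tA bM) = 1 by rcases hN.prod _ (mul_mem hdN hdN : x ∈ N) with e | e <;> rw [e] <;> simp [hpp])
    (by rcases hN.prod _ (mul_mem hdN hdN : x ∈ N) with e | e <;> rw [e] <;> simp [hxp.eq])
    (by rcases hN.prod _ (mul_mem hdN hdN : x ∈ N) with e | e <;> rw [e] <;> simp [hbp.inv_left.eq]) hcB.1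
  have hy2 : x * t * (x * t) = 1 := by
    rcases ht with rfl | rfl
    · simpa using hd4
    · calc x * p * (x * p) = x * (p * x) * p := by group
        _ = x * (x * p) * p := by rw [← hxp.eq]
        _ = (x * x) * (p * p) := by group
        _ = 1 := by rw [hd4, hpp, one_mul]
  have hyn : Commute (x * t) n := by
    rcases ht with rfl | rfl
    · simpa using (show Commute x n from hxn)
    · exact (show Commute x n from hxn).mul_left (show Commute p n from hnp.symm)
  have hcN := pr_rev (y := x * t) (e := e4) hy2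
    (show pr (x * t) e4 * pr (x * t) e4 = 1 by rcases htn with e | e <;> rw [e] <;> simp [hnn])
    (by rcases htn with e | e <;> rw [e] <;> simp [hyn.eq])
    (by rcases htn with e | e <;> rw [e] <;> simp [he4n.eq]) rfl
  have hcN' := pr_rev (y := x * t) (e := e4⁻¹) hy2
    (show pr (x * t) e4 * pr (x * t) e4 = 1 by rcases htn with e | e <;> rw [e] <;> simp [hnn])
    (by rcases htn with e | e <;> rw [e] <;> simp [hyn.eq])
    (by rcases htn with e | e <;> rw [e] <;> simp [he4n.inv_left.eq]) hcN.1
  have hrelA : Holds h.v (knownA s0 sb (wx ++ ts) sn) := by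
    have py : prodW h.v (wx ++ ts) = x * t := by rw [prodW_append, pwx, hts.prod]
    refine holds_cons base (holds_cons ?_ (holds_cons ?_ (holds_cons ?_ (holds_cons ?_ (holds_cons ?_
      (holds_cons ?_ (holds_cons ?_ (holds_cons ?_ (holds_cons ?_ holds_nil)))))))))
    · rw [prodW_append, pwx, hd4]
    · rw [prodW_append, prodW_pr _ _ k2.1 k2.2, pwx]; exact hsb.rel (by rw [v6, hpp])
    · rw [prodW_append, prodW_pr _ _ k3.1 k3.2, pwx, hcB.1]; exact hsb.rel (by rw [v6, hpp])
    · rw [prodW_cm _ _ k2.1 k2.2, pwx, hcB.2]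
    · rw [prodW_cm _ _ k3.1 k3.2, pwx, hcB'.2]
    · rw [prodW_append, prodW_pr _ _ k04.1 k04.2, py]; exact hsn.rel (by rw [v8, hnn])
    · rw [prodW_append, prodW_pr _ _ k51.1 k51.2, py, hcN.1]; exact hsn.rel (by rw [v8, hnn])
    · rw [prodW_cm _ _ k04.1 k04.2, py, hcN.2]
    · rw [prodW_cm _ _ k51.1 k51.2, py, hcN'.2]
  have hx1 : x = 1 := side_fix x (pwx ▸ case_A hb hs0.cases hsb.cases hts.cases hsn.cases hrelA)
    hxp.eq hxq.eq hxn hxm
  have hdinv : d⁻¹ = d := inv_eq_of_mul_eq_one_left hx1
  have hdn : d * n = n * d := by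
    calc d * n = n * d * n * n := by rw [hndn, hdinv]
      _ = n * d := by rw [mul_assoc, hnn, mul_one]
  have hdm : d * m = m * d := by
    calc d * m = m * d * m * m := by rw [hmdm, hdinv]
      _ = m * d := by rw [mul_assoc, hmm, mul_one]
  obtain ⟨t', ht', htn'⟩ := hlocn d hdn hdp
  obtain ⟨ts', hts'⟩ := exists_sign (v := h.v) (k := 6) ht'
  obtain ⟨sn', hsn'⟩ := exists_sign (v := h.v) (k := 8) htn'
  have hy2' : d * t' * (d * t') = 1 := by
    rcases ht' with rfl | rfl
    · simpa [hxd] using hx1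
    · calc d * p * (d * p) = d * (p * d) * p := by group
        _ = d * (d * p) * p := by rw [← hdp]
        _ = x * (p * p) := by rw [hxd]; group
        _ = 1 := by rw [hx1, hpp, one_mul]
  have hyn' : Commute (d * t') n := by
    rcases ht' with rfl | rfl
    · simpa using (show Commute d n from hdn)
    · exact (show Commute d n from hdn).mul_left (show Commute p n from hnp.symm)
  have hcN2 := pr_rev (y := d * t') (e := e4) hy2'
    (show pr (d * t') e4 * pr (d * t') e4 = 1 by rcases htn' with e | e <;> rw [e] <;> simp [hnn])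
    (by rcases htn' with e | e <;> rw [e] <;> simp [hyn'.eq])
    (by rcases htn' with e | e <;> rw [e] <;> simp [he4n.eq]) rfl
  have hrelB : Holds h.v (knownB s0 (wd ++ ts') sn') := by
    have py : prodW h.v (wd ++ ts') = d * t' := by rw [prodW_append, pwd, hts'.prod]
    refine holds_cons base (holds_cons ?_ (holds_cons ?_ (holds_cons ?_ holds_nil)))
    · rw [pwx, hx1]
    · rw [prodW_append, prodW_pr _ _ k04.1 k04.2, py]; exact hsn'.rel (by rw [v8, hnn])
    · rw [prodW_append, prodW_pr _ _ k51.1 k51.2, py, hcN2.1]; exact hsn'.rel (by rw [v8, hnn])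
  rcases hs0.cases with rfl | rfl
  · left
    refine holds_cons ?_ holds_nil
    rw [pwd]
    exact side_fix d (pwd ▸ case_B0 hb hts'.cases hsn'.cases hrelB) hdp hdq hdn hdm
  · exact Or.inr ((case_B1 hb hts'.cases hsn'.cases hrelB).resolve_left (fun hh => by
      rw [v9] at hh; exact h.m_not_mem hh))

end Cfsg.Agent.GLThreeAmalgam
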