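/-
Identification of the group of a GL(2,3)-amalgam with M12 or PSL(3,3).

Main result: `Amal.identify`.
-/
import Cfsg.Prelude.Def_Spor_Mathieu
import Cfsg.Agent.Lib.GLThreeAmalgam.Relations
import Cfsg.Agent.Lib.GLThreeAmalgam.Tables
import Cfsg.Agent.Lib.Order95040.Unique
import Cfsg.Agent.Lib.SLGen.Cycle
import Cfsg.Agent.Lib.Golay.Mathieu
import Cfsg.Agent.Lib.Linear.SLn
import Cfsg.Agent.Lib.GLOrder.Basic

set_option autoImplicit false

namespace Cfsg.Agent.GLThreeAmalgam

open Subgroup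

theorem prodW_hom {H K : Type*} [Group H] [Group K] (f : H →* K) (w : Fin 7 → H) :
    ∀ l : List ℕ, f (prodW w l) = prodW (fun i => f (w i)) l
  | [] => map_one f
  | a :: l => by
    rw [prodW_cons, prodW_cons, map_mul, prodW_hom f w l]
    congr 1
    unfold val
    rcases a with _ | _ | _ | _ | _ | _ | _ | _ | _ | _ | k <;> simp

theorem prodW_mem {G : Type*} [Group G] (v : Fin 7 → G) : ∀ l : List ℕ, prodW v l ∈ Subgroup.closure (Set.range v)
  | [] => one_mem _
  | a :: l => by
    rw [prodW_cons]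
    refine mul_mem ?_ (prodW_mem v l)
    have h : ∀ i, v i ∈ Subgroup.closure (Set.range v) := fun i => Subgroup.subset_closure ⟨i, rfl⟩
    unfold val
    rcases a with _ | _ | _ | _ | _ | _ | _ | _ | _ | _ | k <;> simp [h, one_mem]

/-- Identification with a simple model satisfying the same relations. -/
theorem iso_of_model {G M : Type*} [Group G] [Group M] [Finite M] [IsSimpleGroup M] [Nontrivial G]
    (v : Fin 7 → G) (u : Fin 7 → M) (hv : Subgroup.closure (Set.range v) = ⊤) (hu : Subgroup.closure (Set.range u) = ⊤)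
    {ext : List (List ℕ)} (hvb : Holds v baseRels) (hve : Holds v ext) (hub : Holds u baseRels) (hue : Holds u ext)
    (D : CosetEnum.Data) (hc : D.check = true) (hk : D.k = 10) (hi : D.inv = invL)
    (hl : (D.loops.all fun p => bif p.1 then (baseRels ++ ext).contains p.2 else subWords.contains p.2) = true)
    (hcard : D.n * 432 ≤ Nat.card M) : Nonempty (G ≃* M) := by
  let H : Subgroup (G × M) := Subgroup.closure (Set.range fun i => (v i, u i))
  let w : Fin 7 → H := fun i => ⟨(v i, u i), Subgroup.subset_closure ⟨i, rfl⟩⟩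
  let fG : H →* G := (MonoidHom.fst G M).comp H.subtype
  let fM : H →* M := (MonoidHom.snd G M).comp H.subtype
  have hw : ∀ l, prodW w l = 1 ↔ prodW v l = 1 ∧ prodW u l = 1 := by
    intro l
    have e1 : fG (prodW w l) = prodW v l := prodW_hom fG w l
    have e2 : fM (prodW w l) = prodW u l := prodW_hom fM w l
    refine ⟨fun e => ?_, fun e => ?_⟩
    · rw [e, map_one] at e1 e2; exact ⟨e1.symm, e2.symm⟩
    · exact Subtype.ext (Prod.ext (e1.trans e.1) (e2.trans e.2))
  have hwgen : Subgroup.closure (Set.range w) = ⊤ := by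
    rw [← Subgroup.map_injective H.subtype_injective |>.eq_iff, MonoidHom.map_closure, ← MonoidHom.range_eq_map,
      range_subtype, ← Set.range_comp]
    rfl
  obtain ⟨hfin, hH⟩ := card_le affTable D affTable_check rfl rfl (by decide +kernel) hc hk hi (ext := ext) hl
    (v := w) (fun l h => (hw l).mpr ⟨hvb l h, hub l h⟩) (fun l h => (hw l).mpr ⟨hve l h, hue l h⟩) hwgen
  have surjM : Function.Surjective fM := by
    rw [← MonoidHom.range_eq_top, eq_top_iff, ← hu, Subgroup.closure_le]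
    rintro _ ⟨i, rfl⟩
    exact ⟨w i, rfl⟩
  have surjG : Function.Surjective fG := by
    rw [← MonoidHom.range_eq_top, eq_top_iff, ← hv, Subgroup.closure_le]
    rintro _ ⟨i, rfl⟩
    exact ⟨w i, rfl⟩
  have hbij : Function.Bijective fM := (Nat.bijective_iff_surjective_and_card fM).mpr
    ⟨surjM, le_antisymm (hH.trans hcard) (Nat.card_le_card_of_surjective fM surjM)⟩
  let f : M →* G := fG.comp (MulEquiv.ofBijective fM hbij).symm.toMonoidHom
  have fsurj : Function.Surjective f := surjG.comp (MulEquiv.ofBijective fM hbij).symm.surjective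
  have finj : Function.Injective f := by
    rcases (inferInstance : f.ker.Normal).eq_bot_or_eq_top with h | h
    · exact (MonoidHom.ker_eq_bot_iff f).mp h
    · exfalso
      obtain ⟨g, hg⟩ := exists_ne (1 : G)
      obtain ⟨x, rfl⟩ := fsurj g
      exact hg (MonoidHom.mem_ker.mp (h ▸ mem_top x))
  exact ⟨(MulEquiv.ofBijective f ⟨finj, fsurj⟩).symm⟩

/-- The generators of the model of `M12`. -/
def uM12 : Fin 7 → Equiv.Perm (Fin 12) := ![
  ⟨![0, 1, 10, 5, 6, 7, 9, 3, 2, 4, 8, 11], ![0, 1, 8, 7, 9, 3, 4, 5, 10, 6, 2, 11], by decide +kernel, by decide +kernel⟩,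
  ⟨![11, 0, 5, 3, 4, 6, 2, 10, 8, 7, 9, 1], ![1, 11, 6, 3, 4, 2, 5, 9, 8, 10, 7, 0], by decide +kernel, by decide +kernel⟩,
  ⟨![0, 1, 5, 4, 8, 6, 2, 9, 3, 10, 7, 11], ![0, 1, 6, 8, 3, 2, 5, 10, 4, 7, 9, 11], by decide +kernel, by decide +kernel⟩,
  ⟨![0, 1, 9, 3, 8, 7, 10, 5, 4, 2, 6, 11], ![0, 1, 9, 3, 8, 7, 10, 5, 4, 2, 6, 11], by decide +kernel, by decide +kernel⟩,
  ⟨![0, 11, 6, 3, 8, 5, 2, 7, 4, 10, 9, 1], ![0, 11, 6, 3, 8, 5, 2, 7, 4, 10, 9, 1], by decide +kernel, by decide +kernel⟩,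
  ⟨![0, 11, 9, 3, 5, 4, 6, 8, 7, 2, 10, 1], ![0, 11, 9, 3, 5, 4, 6, 8, 7, 2, 10, 1], by decide +kernel, by decide +kernel⟩,
  ⟨![3, 4, 6, 0, 1, 5, 2, 7, 11, 9, 10, 8], ![3, 4, 6, 0, 1, 5, 2, 7, 11, 9, 10, 8], by decide +kernel, by decide +kernel⟩]

/-- The generators of the model of `PSL(3,3)`. -/
def uPSL : Fin 7 → Matrix.SpecialLinearGroup (Fin 3) (ZMod 3) := ![
  ⟨!![1, 1, 1; 0, 1, 0; 0, 0, 1], by decide +kernel⟩,
  ⟨!![1, 1, 0; 0, 1, 0; 0, 1, 1], by decide +kernel⟩,
  ⟨!![1, 2, 0; 0, 1, 0; 0, 0, 1], by decide +kernel⟩,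
  ⟨!![1, 2, 1; 0, 2, 0; 0, 0, 2], by decide +kernel⟩,
  ⟨!![2, 2, 0; 0, 1, 0; 0, 1, 2], by decide +kernel⟩,
  ⟨!![2, 1, 2; 0, 1, 1; 0, 0, 2], by decide +kernel⟩,
  ⟨!![2, 0, 0; 0, 2, 0; 2, 0, 1], by decide +kernel⟩]

/-- The value of a word in the generators of M12. -/
def prod3 : List ℕ → Equiv.Perm (Fin 12)
  | [] => 1
  | a :: w => [Order7920.aP, Order7920.xP, Order95040.tT 4].getD a 1 * prod3 w

theorem prod3_mem : ∀ w : List ℕ, prod3 w ∈ Order95040.rM.range
  | [] => one_mem _
  | a :: w => by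
    refine mul_mem ?_ (prod3_mem w)
    rcases a with _ | _ | _ | k
    exacts [Order95040.aP_mem_range, Order95040.xP_mem_range, Order95040.tT_mem_range, one_mem _]

theorem uM12_mem : ∀ i, uM12 i ∈ Order95040.rM.range := by
  have h : ∀ i, uM12 i = prod3 (([[0, 1, 2, 0, 2, 0, 0, 2, 0, 0, 0, 2, 0],
    [1, 1, 0, 1, 1, 2, 0, 2, 0, 2, 0, 0],
    [0, 1, 1, 0, 1, 2, 0, 1, 2, 0, 0, 1, 2, 0, 1, 2],
    [0, 1, 0, 0, 2, 0, 0, 2, 0, 1, 0, 2, 0, 0, 2],
    [0, 2, 0, 0, 1, 1, 2, 0, 1, 2, 0, 2, 0, 1, 0],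
    [1, 1, 1, 2, 0, 0, 1, 1, 2, 0, 2, 0, 1, 0, 2, 0],
    [0, 0, 0, 1, 1, 2, 0, 0, 2, 0, 2, 0, 2, 0, 0, 1, 1]] : List (List ℕ)).getD i.val []) := by
    decide +kernel
  exact fun i => (h i) ▸ prod3_mem _

theorem uM12_rels : ((baseRels ++ ext220).all fun w => decide (∀ x, prodW uM12 w x = x)) = true := by
  decide +kernel

theorem uPSL_rels : ((baseRels ++ ext13).all fun w =>
    decide ((prodW uPSL w).1 = (1 : Matrix (Fin 3) (Fin 3) (ZMod 3)))) = true := by
  decide +kernel

theorem natCard_sl : Nat.card (Matrix.SpecialLinearGroup (Fin 3) (ZMod 3)) = 5616 := by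
  have : Fact (Nat.Prime 3) := ⟨Nat.prime_three⟩
  rw [GLOrder.card_SL, Nat.card_zmod]
  decide +kernel

theorem natCard_psl : Nat.card (Matrix.ProjectiveSpecialLinearGroup (Fin 3) (ZMod 3)) = 5616 := by
  have : Fact (Nat.Prime 3) := ⟨Nat.prime_three⟩
  rw [GLOrder.card_PSL, natCard_sl, Nat.card_zmod]
  rfl

theorem zmod_three_cases : ∀ c : ZMod 3, c = 0 ∨ c = 1 ∨ c = 1 + 1 := by decide

theorem uPSL_tv_01 : (prodW uPSL [5]).1 = Matrix.transvection (0 : Fin 3) (1 : Fin 3) (1 : ZMod 3) := by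
  decide +kernel

theorem uPSL_tv_12 : (prodW uPSL [0, 3, 4, 7, 8]).1 = Matrix.transvection (1 : Fin 3) (2 : Fin 3) (1 : ZMod 3) := by
  decide +kernel

theorem uPSL_tv_20 : (prodW uPSL [2, 4, 6, 9, 1]).1 = Matrix.transvection (2 : Fin 3) (0 : Fin 3) (1 : ZMod 3) := by
  decide +kernel

theorem uPSL_closure : Subgroup.closure (Set.range uPSL) = ⊤ := by
  have : Fact (Nat.Prime 3) := ⟨Nat.prime_three⟩
  have hpow : ∀ (i j : Fin 3) (hij : i ≠ j) (w : List ℕ),
      prodW uPSL w = Matrix.SpecialLinearGroup.transvection hij (1 : ZMod 3) →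
      ∀ c : ZMod 3, Matrix.SpecialLinearGroup.transvection hij c ∈ Subgroup.closure (Set.range uPSL) := by
    intro i j hij w e c
    have h1 : Matrix.SpecialLinearGroup.transvection hij (1 : ZMod 3) ∈ Subgroup.closure (Set.range uPSL) :=
      e ▸ prodW_mem uPSL w
    rcases zmod_three_cases c with rfl | rfl | rfl
    · have : Matrix.SpecialLinearGroup.transvection hij (0 : ZMod 3) = 1 :=
        Subtype.ext (by show Matrix.transvection i j (0 : ZMod 3) = 1; simp [Matrix.transvection])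
      rw [this]; exact one_mem _
    · exact h1
    · have : Matrix.SpecialLinearGroup.transvection hij (1 + 1 : ZMod 3) =
          Matrix.SpecialLinearGroup.transvection hij (1 : ZMod 3) * Matrix.SpecialLinearGroup.transvection hij (1 : ZMod 3) :=
        Subtype.ext (by
          show Matrix.transvection i j (1 + 1 : ZMod 3) = Matrix.transvection i j 1 * Matrix.transvection i j 1
          rw [Matrix.transvection_mul_transvection_same _ _ hij])
      rw [this]; exact mul_mem h1 h1
  refine SLGen.eq_top_of_chain (n := 2) (by norm_num) _ ?_ ?_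
  · intro i j hij hji
    have : (i = 0 ∧ j = 1) ∨ (i = 1 ∧ j = 2) := by revert i j; decide
    rcases this with ⟨rfl, rfl⟩ | ⟨rfl, rfl⟩
    · exact hpow _ _ hij [5] (Subtype.ext uPSL_tv_01)
    · exact hpow _ _ hij [0, 3, 4, 7, 8] (Subtype.ext uPSL_tv_12)
  · intro i j hij hi hj
    obtain rfl : i = 2 := Fin.ext hi
    obtain rfl : j = 0 := Fin.ext hj
    exact hpow _ _ hij [2, 4, 6, 9, 1] (Subtype.ext uPSL_tv_20)

/-- **Identification of the amalgam.** -/
theorem Amal.identify {G : Type*} [Group G] [Finite G] (h : Amal G) :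
    Cfsg.Spor.IsoM12 G ∨ Nonempty (G ≃* Matrix.ProjectiveSpecialLinearGroup (Fin 3) (ZMod 3)) := by
  have : Nontrivial G :=
    ⟨h.tA cM, 1, fun e => absurd (aff_eq_iff.mp (h.injA (e.trans (map_one h.tA).symm))) (by decide +kernel)⟩
  obtain ⟨hb, h13 | h220⟩ := h.relations
  all_goals
    have hgen : Subgroup.closure (Set.range h.v) = ⊤ := by
      rw [eq_top_iff, ← h.gen, sup_le_iff]
      have hv : ∀ i, h.v i ∈ Subgroup.closure (Set.range h.v) := fun i => Subgroup.subset_closure ⟨i, rfl⟩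
      have six : ∀ f : Aff →* G, (∀ i, f (sixM i) ∈ Subgroup.closure (Set.range h.v)) → f.range ≤ Subgroup.closure (Set.range h.v) := by
        intro f hf
        rw [MonoidHom.range_eq_map, ← closure_six, MonoidHom.map_closure, Subgroup.closure_le]
        rintro _ ⟨_, ⟨i, rfl⟩, rfl⟩
        exact hf i
      refine ⟨six _ fun i => ?_, six _ fun i => ?_⟩
      · fin_cases i <;> simp only [sixM]
        exacts [hv 0, hv 1, hv 2, hv 3, hv 4, hv 5, by simp [one_mem]]
      · fin_cases i <;> simp only [sixM]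
        exacts [h.ab.symm ▸ hv 1, h.ba.symm ▸ hv 0, h.cc.symm ▸ inv_mem (hv 2), h.pq.symm ▸ hv 4,
          h.qp.symm ▸ hv 3, hv 6, by simp [one_mem]]
  · right
    have : Fact (Nat.Prime 3) := ⟨Nat.prime_three⟩
    have : IsSimpleGroup (Matrix.ProjectiveSpecialLinearGroup (Fin 3) (ZMod 3)) :=
      Linear.isSimpleGroup_psl (by simp)
    let π : Matrix.SpecialLinearGroup (Fin 3) (ZMod 3) →* Matrix.ProjectiveSpecialLinearGroup (Fin 3) (ZMod 3) :=
      QuotientGroup.mk' _
    let u := fun i => π (uPSL i)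
    have hall : Holds u (baseRels ++ ext13) := by
      intro w hw
      have h1 : prodW uPSL w = 1 := Subtype.ext (by simpa using List.all_eq_true.mp uPSL_rels w hw)
      rw [← prodW_hom π uPSL w, h1, map_one]
    have hu : Subgroup.closure (Set.range u) = ⊤ := by
      rw [show Set.range u = π '' Set.range uPSL from Set.range_comp π uPSL, ← MonoidHom.map_closure, uPSL_closure]
      exact map_top_of_surjective π (QuotientGroup.mk'_surjective _)
    exact iso_of_model h.v u hgen hu hb h13 (fun w hw => hall w (List.mem_append_left _ hw))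
      (fun w hw => hall w (List.mem_append_right _ hw)) t13Table t13Table_check rfl rfl (by decide +kernel)
      (by rw [natCard_psl]; rfl)
  · left
    have : IsSimpleGroup ↥Spor.M12 :=
      Agent.Golay.isSimpleGroup_m12 (Agent.Golay.pts_dodecad0 ▸ Agent.Golay.dodecad0_mem)
    have : Finite ↥Spor.M12 := inferInstance
    have hinj : Function.Injective Order95040.rM := by
      rcases (inferInstance : Order95040.rM.ker.Normal).eq_bot_or_eq_top with hk | hk
      · exact (MonoidHom.ker_eq_bot_iff _).mp hk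
      · exfalso
        obtain ⟨x, hx⟩ := Order95040.aP_mem_range
        have h1 : Order95040.rM x = 1 := MonoidHom.mem_ker.mp (hk ▸ mem_top x)
        exact absurd (hx.symm.trans h1) (by decide +kernel)
    have hpre : ∀ i, ∃ x, Order95040.rM x = uM12 i := uM12_mem
    choose u hu using hpre
    have hall : Holds u (baseRels ++ ext220) := by
      intro w hw
      refine hinj ?_
      rw [prodW_hom, map_one, funext hu]
      exact Equiv.ext (by simpa using List.all_eq_true.mp uM12_rels w hw)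
    have hgu : Subgroup.closure (Set.range u) = ⊤ := by
      obtain ⟨a, ha⟩ := Order95040.aP_mem_range
      obtain ⟨x, hx⟩ := Order95040.xP_mem_range
      obtain ⟨y, hy⟩ := Order95040.tT_mem_range
      rw [eq_top_iff, ← Order95040.closure_eq_top Order95040.natCard_m12 hinj ha hx hy, Subgroup.closure_le]
      have key : ∀ (z : ↥Spor.M12) (w : List ℕ) (P : Equiv.Perm (Fin 12)), Order95040.rM z = P →
          prodW uM12 w = P → z ∈ Subgroup.closure (Set.range u) := fun z w P hz hw => by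
        have : prodW u w = z := hinj (by rw [prodW_hom, funext hu, hw, hz])
        exact this ▸ prodW_mem u w
      rintro z (rfl | rfl | rfl)
      · exact key _ [0, 5, 7, 9, 8, 9, 0, 8, 9, 0, 3] _ ha (by decide +kernel)
      · exact key _ [3, 4, 6, 9, 8, 9, 1, 8, 9] _ hx (by decide +kernel)
      · exact key _ [2, 5, 8, 3, 9, 8, 9, 1, 8, 3, 9] _ hy (by decide +kernel)
    exact iso_of_model h.v u hgen hgu hb h220 (fun w hw => hall w (List.mem_append_left _ hw))
      (fun w hw => hall w (List.mem_append_right _ hw)) t220Table t220Table_check rfl rfl (by decide +kernel)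
      (by rw [Order95040.natCard_m12]; rfl)

end Cfsg.Agent.GLThreeAmalgam
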