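/-
Generated data: relators of AGL(2,3) in the letters of the GL(2,3)-amalgam.
-/
import Mathlib.Init

set_option autoImplicit false

namespace Cfsg.Agent.GLThreeAmalgam

/-- Relators of the affine group `AGL(2, 3)` in the letters `a, a⁻¹, b, b⁻¹, c, c⁻¹, p, q, n`. -/
def rmWords : List (List Nat) :=
  [[0, 0, 0],
  [4, 4, 4],
  [2, 2, 2],
  [6, 6],
  [7, 7],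
  [8, 8],
  [2, 0, 3, 5, 1],
  [2, 4, 3, 5],
  [2, 6, 3, 6],
  [2, 7, 3, 3, 7],
  [2, 8, 3, 3, 3, 8, 3],
  [6, 0, 6, 1, 1],
  [6, 2, 6, 3],
  [6, 4, 6, 5, 5],
  [6, 7, 6, 7],
  [6, 8, 6, 8],
  [7, 0, 7, 1],
  [7, 2, 7, 3, 3],
  [7, 4, 7, 5, 5],
  [7, 6, 7, 6],
  [7, 8, 7, 8, 6],
  [8, 0, 8, 5],
  [8, 2, 8, 8, 3, 8],
  [8, 4, 8, 1],
  [8, 6, 8, 6],
  [8, 7, 8, 7, 6],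
  [0, 4, 1, 5],
  [2, 8, 2, 8, 2, 8, 2, 8, 2, 8, 2, 8, 2, 8, 2, 8],
  [2, 8, 3, 8, 2, 8, 3, 8, 2, 8, 3, 8, 2, 8, 3, 8, 2, 8, 3, 8, 2, 8, 3, 8],
  [6, 7, 7, 6],
  [6, 8, 8, 6],
  [8, 7, 7, 8],
  [2, 7, 2, 7],
  [2, 8, 8, 3],
  [7, 8, 8, 7],
  [2, 6, 6, 3],
  [2, 7, 7, 3],
  [7, 2, 2, 7, 3],
  [8, 2, 2, 2, 8],
  [6, 7, 8, 7, 8],
  [8, 7, 6, 8, 7],
  [2, 2, 6, 2, 6],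
  [2, 2, 7, 3, 7],
  [7, 8, 6, 7, 8],
  [6, 8, 7, 8, 7],
  [2, 2, 6, 6, 3, 3],
  [2, 2, 8, 8, 3, 3],
  [8, 2, 6, 3, 8, 6],
  [7, 2, 6, 3, 7, 6],
  [2, 6, 7, 6, 7, 3],
  [2, 8, 7, 7, 8, 3],
  [2, 6, 8, 8, 6, 3],
  [2, 7, 6, 7, 6, 3],
  [2, 6, 8, 6, 8, 3],
  [7, 2, 8, 8, 3, 7],
  [8, 2, 7, 2, 7, 8],
  [6, 8, 2, 6, 3, 8],
  [6, 7, 2, 6, 3, 7],
  [2, 6, 7, 2, 7, 6],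
  [2, 6, 2, 6, 3, 3],
  [2, 7, 8, 8, 7, 3],
  [2, 6, 7, 7, 6, 3],
  [8, 2, 7, 7, 3, 8],
  [2, 8, 6, 8, 6, 3],
  [8, 7, 2, 2, 7, 3, 8],
  [2, 6, 7, 8, 7, 8, 3],
  [2, 2, 6, 7, 3, 7, 6],
  [2, 8, 7, 8, 7, 6, 3],
  [6, 8, 2, 7, 2, 8, 7],
  [2, 7, 8, 2, 8, 3, 8],
  [8, 2, 2, 7, 3, 7, 8]]

end Cfsg.Agent.GLThreeAmalgam
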