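/-
Systems of seven elements satisfying the relators of a GL(2,3)-amalgam.

Main results: `Sys.mem_of_deriv`, `card_orbit_le`, `Sys.card_sub_le`, `Sys.card_le`.
-/
import Cfsg.Agent.Lib.CosetEnum.Seed
import Cfsg.Agent.Lib.GLThreeAmalgam.Words

set_option autoImplicit false

namespace Cfsg.Agent.GLThreeAmalgam

open CosetEnum

/-- The inverse letters. -/
def invL : List ℕ := [1, 0, 3, 2, 5, 4, 6, 7, 8, 9]

/-- The letters of the second side corresponding to those of the first. -/
def phiL (a : ℕ) : ℕ := [2, 3, 0, 1, 5, 4, 7, 6, 9].getD a 0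

/-- The basic relators of the amalgam. -/
def baseRels : List (List ℕ) :=
  rmWords ++ rmWords.map (fun w => w.map phiL) ++ (List.range 10).map (fun a => [a, invL.getD a 0]) ++ [[]]

/-- The letters of the first side. -/
def subWords : List (List ℕ) := (List.range 9).map fun a => [a]

/-- The values of the ten letters. -/
def val {G : Type*} [Group G] (v : Fin 7 → G) (a : ℕ) : G :=
  [v 0, (v 0)⁻¹, v 1, (v 1)⁻¹, v 2, (v 2)⁻¹, v 3, v 4, v 5, v 6].getD a 1

/-- The value of a word, read from left to right. -/
def prodW {G : Type*} [Group G] (v : Fin 7 → G) : List ℕ → G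
  | [] => 1
  | a :: w => val v a * prodW v w

section
variable {G : Type*} [Group G] (v : Fin 7 → G)

@[simp] theorem prodW_nil : prodW v [] = 1 := rfl

@[simp] theorem prodW_cons (a : ℕ) (w : List ℕ) : prodW v (a :: w) = val v a * prodW v w := rfl

theorem prodW_append : ∀ w₁ w₂ : List ℕ, prodW v (w₁ ++ w₂) = prodW v w₁ * prodW v w₂
  | [], w₂ => by simp
  | a :: w₁, w₂ => by simp [prodW_append w₁ w₂, mul_assoc]

theorem ev_inv_val : ∀ w : List ℕ, Data.ev (fun a => (val v a)⁻¹) w = (prodW v w)⁻¹
  | [] => by simp [Data.ev]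
  | a :: w => by
    show Data.ev (fun a => (val v a)⁻¹) w * (val v a)⁻¹ = _
    rw [ev_inv_val w, prodW_cons, mul_inv_rev]

/-- The subgroup generated by the first side. -/
def sideA : Subgroup G := Subgroup.closure ((fun a => val v a) '' {a | a < 9})

theorem val_mem_sideA {a : ℕ} (ha : a < 9) : val v a ∈ sideA v := Subgroup.subset_closure ⟨a, ha, rfl⟩

end

/-- The relators hold. -/
def Holds {G : Type*} [Group G] (v : Fin 7 → G) (l : List (List ℕ)) : Prop := ∀ w ∈ l, prodW v w = 1

variable {G : Type*} [Group G] {v : Fin 7 → G}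

theorem Holds.inv_mul (h : Holds v baseRels) {a : ℕ} (ha : a < 10) :
    (val v (invL.getD a 0))⁻¹ * (val v a)⁻¹ = 1 := by
  have := h [a, invL.getD a 0] (by
    simp only [baseRels, List.mem_append, List.mem_map, List.mem_range]
    exact Or.inl (Or.inr ⟨a, ha, rfl⟩))
  rw [← mul_inv_rev, inv_eq_one]
  simpa using this

theorem holds_of_all {known l : List (List ℕ)} (hk : Holds v known)
    (hl : (l.all fun w => known.contains w) = true) : Holds v l := fun w hw =>
  hk w (by simpa using List.all_eq_true.mp hl w hw)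

/-- The target of a checked derivation lies in the first side. -/
theorem mem_of_deriv (D : Deriv) (hc : D.check = true) (hk : D.k = 10) (hi : D.inv = invL)
    {ext : List (List ℕ)} (hr : D.rels = baseRels ++ ext) (hs : D.subs = subWords)
    (hb : Holds v baseRels) (he : Holds v ext) : prodW v D.tgt ∈ sideA v := by
  have h := D.target_fixes hc (fun a => (val v a)⁻¹) ((1 : G) : G ⧸ sideA v) (fun a ha => by
      rw [hk] at ha
      have e : D.invl a = invL.getD a 0 := by
        unfold Deriv.invl
        have : Nat.beq a D.k = false := by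
          cases h : Nat.beq a D.k
          · rfl
          · rw [hk] at h; exact absurd (Nat.eq_of_beq_eq_true h) ha.ne
        rw [this, hi]; rfl
      rw [e]
      exact hb.inv_mul ha) (fun w hw => by
      rw [hr, List.mem_append] at hw
      rw [ev_inv_val, inv_eq_one]
      exact hw.elim (hb w) (he w)) (fun w hw => by
      rw [hs, subWords, List.mem_map] at hw
      obtain ⟨a, ha, rfl⟩ := hw
      rw [List.mem_range] at ha
      rw [ev_inv_val, MulAction.Quotient.smul_mk, QuotientGroup.eq]
      simpa using val_mem_sideA v ha)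
  rw [ev_inv_val, MulAction.Quotient.smul_mk, QuotientGroup.eq] at h
  simpa using h

/-- The orbit of a base point under the letters of a checked table. -/
theorem card_orbit_le {H X : Type*} [Group H] [MulAction H X] (D : Data) (hc : D.check = true)
    (el : ℕ → H) (base : X) (hinv : ∀ a < D.k, el (D.invl a) * el a = 1)
    (hrel : ∀ w, (true, w) ∈ D.loops → Data.ev el w = 1)
    (hsub : ∀ w, (false, w) ∈ D.loops → Data.ev el w • base = base) :
    ∃ φ : Fin D.n → X, ∀ g ∈ Subgroup.closure (el '' {a | a < D.k}), g • base ∈ Set.range φ := by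
  obtain ⟨φ, h0, hφ⟩ := D.exists_phi hc el base hinv hrel hsub
  have hc' := hc
  unfold Data.check at hc'
  simp only [Bool.and_eq_true] at hc'
  have hp := Data.permFacts hc'.1
  refine ⟨fun i => φ i, fun g hg => ?_⟩
  have key : ∀ i < D.n, ∃ j < D.n, g • φ i = φ j := by
    induction hg using Subgroup.closure_induction'' with
    | mem x hx =>
      obtain ⟨a, ha, rfl⟩ := hx
      exact fun i hi => ⟨_, hp.act_lt_n a ha i hi, hφ a ha i hi⟩
    | inv_mem x hx =>
      obtain ⟨a, ha, rfl⟩ := hx
      intro i hi
      refine ⟨_, hp.act_lt_n _ (hp.inv_lt a ha) i hi, ?_⟩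
      rw [← eq_inv_of_mul_eq_one_left (hinv a ha)]
      exact hφ _ (hp.inv_lt a ha) i hi
    | one => exact fun i hi => ⟨i, hi, one_smul _ _⟩
    | mul x y _ _ hx hy =>
      intro i hi
      obtain ⟨j, hj, e⟩ := hy i hi
      obtain ⟨k, hk, e'⟩ := hx j hj
      exact ⟨k, hk, by rw [mul_smul, e, e']⟩
  obtain ⟨j, hj, e⟩ := key 0 hp.hn
  exact ⟨⟨j, hj⟩, by show φ j = _; rw [← e, h0]⟩

/-- The first side has at most `n` elements if the affine table has `n` points. -/
theorem card_sub_le (D : Data) (hc : D.check = true) (hk : D.k = 9) (hi : D.inv = invL.take 9)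
    (hl : (D.loops.all fun p => p.1 && baseRels.contains p.2) = true) (hb : Holds v baseRels) :
    Finite (sideA v) ∧ Nat.card (sideA v) ≤ D.n := by
  obtain ⟨φ, hφ⟩ := card_orbit_le D hc (fun a => (val v a)⁻¹) (1 : G) (fun a ha => by
      rw [hk] at ha
      have e : D.invl a = invL.getD a 0 := by
        unfold Data.invl
        rw [hi]
        exact (by decide : ∀ a < 9, (invL.take 9).getD a 0 = invL.getD a 0) a ha
      rw [e]
      exact hb.inv_mul (by omega)) (fun w hw => by
      have := List.all_eq_true.mp hl _ hw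
      rw [ev_inv_val, inv_eq_one]
      exact hb w (by simpa using this)) (fun w hw => by
      have := List.all_eq_true.mp hl _ hw
      simp at this)
  have hle : sideA v ≤ Subgroup.closure ((fun a => (val v a)⁻¹) '' {a | a < D.k}) := by
    rw [sideA, Subgroup.closure_le]
    rintro _ ⟨a, ha, rfl⟩
    exact inv_mem_iff.mp (Subgroup.subset_closure ⟨a, by rw [hk]; exact ha, rfl⟩)
  have hr : ∀ g : sideA v, ∃ i, φ i = (g : G) := fun g => by
    simpa [smul_eq_mul] using hφ g (hle g.2)
  choose f hf using hr
  have hinj : Function.Injective f := fun x y h => Subtype.ext (by rw [← hf x, ← hf y, h])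
  exact ⟨Finite.of_injective f hinj, (Nat.card_le_card_of_injective f hinj).trans (by simp)⟩

/-- The order is bounded by the two tables. -/
theorem card_le (DA D : Data) (hcA : DA.check = true) (hkA : DA.k = 9) (hiA : DA.inv = invL.take 9)
    (hlA : (DA.loops.all fun p => p.1 && baseRels.contains p.2) = true)
    (hc : D.check = true) (hk : D.k = 10) (hi : D.inv = invL) {ext : List (List ℕ)}
    (hl : (D.loops.all fun p => bif p.1 then (baseRels ++ ext).contains p.2 else subWords.contains p.2) = true)
    (hb : Holds v baseRels) (he : Holds v ext) (hgen : Subgroup.closure (Set.range v) = ⊤) :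
    Finite G ∧ Nat.card G ≤ D.n * DA.n := by
  obtain ⟨hfA, hA⟩ := card_sub_le DA hcA hkA hiA hlA hb
  obtain ⟨φ, hφ⟩ := card_orbit_le D hc (fun a => (val v a)⁻¹) ((1 : G) : G ⧸ sideA v) (fun a ha => by
      rw [hk] at ha
      have e : D.invl a = invL.getD a 0 := by unfold Data.invl; rw [hi]
      rw [e]
      exact hb.inv_mul ha) (fun w hw => by
      have := List.all_eq_true.mp hl _ hw
      simp only [cond_true, List.contains_iff_mem, List.mem_append] at this
      rw [ev_inv_val, inv_eq_one]
      exact this.elim (hb w) (he w)) (fun w hw => by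
      have := List.all_eq_true.mp hl _ hw
      simp only [cond_false, List.contains_iff_mem, subWords, List.mem_map] at this
      obtain ⟨a, ha, rfl⟩ := this
      rw [List.mem_range] at ha
      rw [ev_inv_val, MulAction.Quotient.smul_mk, QuotientGroup.eq]
      simpa using val_mem_sideA v ha)
  have htop : Subgroup.closure ((fun a => (val v a)⁻¹) '' {a | a < D.k}) = ⊤ := by
    rw [eq_top_iff, ← hgen, Subgroup.closure_le]
    rintro _ ⟨i, rfl⟩
    obtain ⟨a, ha, e⟩ : ∃ a < 10, v i = val v a := by
      fin_cases i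
      exacts [⟨0, by norm_num, rfl⟩, ⟨2, by norm_num, rfl⟩, ⟨4, by norm_num, rfl⟩, ⟨6, by norm_num, rfl⟩,
        ⟨7, by norm_num, rfl⟩, ⟨8, by norm_num, rfl⟩, ⟨9, by norm_num, rfl⟩]
    rw [e]
    exact inv_mem_iff.mp (Subgroup.subset_closure ⟨a, by rw [hk]; exact ha, rfl⟩)
  have hsurj : Function.Surjective φ := fun q => by
    induction q using QuotientGroup.induction_on with | H g => ?_
    obtain ⟨i, hi⟩ := hφ g (htop ▸ Subgroup.mem_top g)
    exact ⟨i, by rw [hi, MulAction.Quotient.smul_mk, smul_eq_mul, mul_one]⟩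
  have hq : Nat.card (G ⧸ sideA v) ≤ D.n := (Nat.card_le_card_of_surjective φ hsurj).trans (by simp)
  have : Finite (G ⧸ sideA v) := Finite.of_surjective φ hsurj
  have hfin : Finite G := Finite.of_equiv _ (Subgroup.groupEquivQuotientProdSubgroup (s := sideA v)).symm
  refine ⟨hfin, ?_⟩
  rw [Subgroup.card_eq_card_quotient_mul_card_subgroup (sideA v)]
  exact Nat.mul_le_mul hq hA

end Cfsg.Agent.GLThreeAmalgam
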